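import Groth.Agent.An.H869.Points
import Groth.Agent.An.H866.AlgDense
import Groth.Agent.An.H868.AlgRed

/-!
# The complex points of an affine variety are connected
-/

set_option autoImplicit false

namespace Groth.Agent.An.H869.Conn

open Topology Groth.Agent.An.H869.Points

lemma wopen_preimage {A : Type*} [CommRing A] [Algebra ℂ A] {u : Set (A → ℂ)} (hu : IsOpen u) :
    WOpen {x : A →ₐ[ℂ] ℂ | (fun a => x a) ∈ u} := by
  intro x hx
  obtain ⟨I, w, hw, hsub⟩ := isOpen_pi_iff.1 hu _ hx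
  have h1 : ∀ a : I, ∃ r : ℝ, 0 < r ∧ Metric.ball (x a.1) r ⊆ w a.1 := fun a => by
    obtain ⟨r, hr, hr'⟩ := Metric.isOpen_iff.1 (hw a.1 a.2).1 _ (hw a.1 a.2).2
    exact ⟨r, hr, hr'⟩
  choose r hr hrw using h1
  have h2 : ∀ᶠ ε : ℝ in 𝓝[>] 0, ∀ a : I, ε < r a :=
    Filter.eventually_all.2 fun a => (gt_mem_nhds (hr a)).filter_mono nhdsWithin_le_nhds
  obtain ⟨ε, hεr, hε⟩ := (h2.and self_mem_nhdsWithin).exists
  refine ⟨I, ε, hε, fun y hy => hsub ?_⟩
  intro a ha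
  refine hrw ⟨a, ha⟩ ?_
  rw [Metric.mem_ball, dist_eq_norm]
  exact (hy a ha).trans (hεr ⟨a, ha⟩)

/-- **Connectedness of the complex points of an affine variety**, in the form of a dichotomy. -/
theorem eq_empty_or_eq_univ (A : Type*) [CommRing A] [IsDomain A] [Algebra ℂ A]
    [Algebra.FiniteType ℂ A] (E : Set (A →ₐ[ℂ] ℂ)) (hE : WOpen E) (hE' : WOpen Eᶜ) :
    E = ∅ ∨ E = Set.univ := by
  obtain ⟨f, hf, key⟩ := exists_ne_zero_forall A
  rcases key E hE hE' with h | h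
  · left
    rw [Set.eq_empty_iff_forall_notMem]
    intro x hx
    obtain ⟨S, ε, hε, hS⟩ := hE x hx
    obtain ⟨y, hy, hyS⟩ := H866.AlgDense.exists_close A f hf x S ε hε
    exact h y hy (hS y hyS)
  · right
    rw [Set.eq_univ_iff_forall]
    intro x
    by_contra hx
    obtain ⟨S, ε, hε, hS⟩ := hE' x hx
    obtain ⟨y, hy, hyS⟩ := H866.AlgDense.exists_close A f hf x S ε hε
    exact hS y hyS (h y hy)

/-- **Connectedness of the complex points of an affine variety.** -/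
theorem isPreconnected_range (A : Type*) [CommRing A] [IsDomain A] [Algebra ℂ A]
    [Algebra.FiniteType ℂ A] :
    IsPreconnected (Set.range fun (x : A →ₐ[ℂ] ℂ) => fun a : A => x a) := by
  intro u v hu hv hsub hu' hv'
  by_contra hcon
  rw [Set.not_nonempty_iff_eq_empty, Set.eq_empty_iff_forall_notMem] at hcon
  have hcompl : {x : A →ₐ[ℂ] ℂ | (fun a => x a) ∈ u}ᶜ = {x : A →ₐ[ℂ] ℂ | (fun a => x a) ∈ v} := by
    ext x
    constructor
    · intro hx
      exact (hsub ⟨x, rfl⟩).resolve_left hx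
    · intro hx hx'
      exact hcon _ ⟨⟨x, rfl⟩, hx', hx⟩
  rcases eq_empty_or_eq_univ A _ (wopen_preimage hu) (hcompl ▸ wopen_preimage hv) with h | h
  · obtain ⟨_, ⟨x, rfl⟩, hx⟩ := hu'
    exact (h ▸ (show x ∈ {x : A →ₐ[ℂ] ℂ | (fun a => x a) ∈ u} from hx) : x ∈ (∅ : Set (A →ₐ[ℂ] ℂ)))
  · obtain ⟨_, ⟨x, rfl⟩, hx⟩ := hv'
    have : x ∈ {x : A →ₐ[ℂ] ℂ | (fun a => x a) ∈ u} := h ▸ Set.mem_univ x
    exact hcon _ ⟨⟨x, rfl⟩, this, hx⟩

theorem conn : H868.AlgRed.CONN := fun A _ _ _ _ => isPreconnected_range A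

end Groth.Agent.An.H869.Conn
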