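import Mathlib.Analysis.Analytic.Polynomial
import Mathlib.Analysis.Analytic.Constructions
import Mathlib.Analysis.Calculus.FDeriv.Analytic
import Mathlib.Analysis.Calculus.ImplicitFunction.ProdDomain
import Mathlib.Analysis.Calculus.Deriv.Polynomial
import Mathlib.Analysis.Complex.Basic
import Mathlib.Analysis.Complex.Polynomial.Basic
import Mathlib.FieldTheory.Separable

/-!
# Simple roots of a polynomial depend holomorphically on the coefficients
-/

set_option autoImplicit false

namespace Groth.Agent.An.H869.LocalRoots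

open MvPolynomial Topology Filter

variable {n : ℕ}

/-- The function `(z, t) ↦ P_z(t)`. -/
noncomputable def F (P : Polynomial (MvPolynomial (Fin n) ℂ)) (q : (Fin n → ℂ) × ℂ) : ℂ :=
  Polynomial.eval q.2 (P.map (eval q.1))

theorem F_eq (P : Polynomial (MvPolynomial (Fin n) ℂ)) (q : (Fin n → ℂ) × ℂ) :
    F P q = ∑ i ∈ Finset.range (P.natDegree + 1), eval q.1 (P.coeff i) * q.2 ^ i := by
  rw [F, Polynomial.eval_map, Polynomial.eval₂_eq_sum_range]

theorem analyticAt_F (P : Polynomial (MvPolynomial (Fin n) ℂ)) (q : (Fin n → ℂ) × ℂ) :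
    AnalyticAt ℂ (F P) q := by
  have h : F P = fun q => ∑ i ∈ Finset.range (P.natDegree + 1), eval q.1 (P.coeff i) * q.2 ^ i :=
    funext (F_eq P)
  rw [h]
  refine Finset.analyticAt_fun_sum _ (fun i _ => ?_)
  refine AnalyticAt.mul ?_ (analyticAt_snd.pow i)
  have := AnalyticAt.aeval_mvPolynomial (𝕜 := ℂ) (A := ℂ) (B := ℂ) (σ := Fin n)
    (f := fun q : (Fin n → ℂ) × ℂ => q.1) (z := q)
    (fun i => (((ContinuousLinearMap.proj (R := ℂ) (φ := fun _ : Fin n => ℂ) i).comp
      (ContinuousLinearMap.fst ℂ (Fin n → ℂ) ℂ)).analyticAt q)) (P.coeff i)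
  simpa [MvPolynomial.coe_aeval_eq_eval] using this

theorem continuous_F (P : Polynomial (MvPolynomial (Fin n) ℂ)) : Continuous (F P) :=
  continuous_iff_continuousAt.2 fun q => (analyticAt_F P q).continuousAt

theorem exists_local_root (P : Polynomial (MvPolynomial (Fin n) ℂ)) (z0 : Fin n → ℂ) (t0 : ℂ)
    (h0 : F P (z0, t0) = 0)
    (h1 : Polynomial.eval t0 (Polynomial.derivative (P.map (eval z0))) ≠ 0) :
    ∃ τ : (Fin n → ℂ) → ℂ, DifferentiableAt ℂ τ z0 ∧ τ z0 = t0 ∧
      ∀ᶠ z in 𝓝 z0, F P (z, τ z) = 0 := by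
  have hs : HasStrictFDerivAt (F P) (fderiv ℂ (F P) (z0, t0)) (z0, t0) :=
    (analyticAt_F P (z0, t0)).hasStrictFDerivAt
  have hval : (fderiv ℂ (F P) (z0, t0)) ((0 : Fin n → ℂ), (1 : ℂ)) =
      Polynomial.eval t0 (Polynomial.derivative (P.map (eval z0))) := by
    have h2 : HasDerivAt (fun t : ℂ => F P (z0, t))
        (Polynomial.eval t0 (Polynomial.derivative (P.map (eval z0)))) t0 :=
      (P.map (eval z0)).hasDerivAt t0
    have h3 : HasDerivAt (fun t : ℂ => F P (z0, t))
        ((fderiv ℂ (F P) (z0, t0)) ((0 : Fin n → ℂ), (1 : ℂ))) t0 :=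
      hs.hasFDerivAt.comp_hasDerivAt t0 ((hasDerivAt_const t0 z0).prodMk (hasDerivAt_id t0))
    exact h3.unique h2
  have hinv : ((fderiv ℂ (F P) (z0, t0)) ∘L .inr ℂ (Fin n → ℂ) ℂ).IsInvertible := by
    refine ⟨ContinuousLinearEquiv.unitsEquivAut ℂ (Units.mk0 _ h1), ?_⟩
    ext
    simp [hval]
  refine ⟨hs.implicitFunctionOfProdDomain hinv, ?_, ?_, ?_⟩
  · exact (hs.hasStrictFDerivAt_implicitFunctionOfProdDomain hinv).hasFDerivAt.differentiableAt
  · exact (hs.eventually_apply_eq_iff_implicitFunctionOfProdDomain hinv).self_of_nhds.1 rfl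
  · filter_upwards [hs.eventually_apply_implicitFunctionOfProdDomain hinv] with z hz
    rw [hz, h0]

/-- Near a point `z0` at which all roots of `P_z` are simple, these roots are given by holomorphic
functions. -/
theorem exists_local_roots (P : Polynomial (MvPolynomial (Fin n) ℂ)) (hP : P.Monic)
    (z0 : Fin n → ℂ) (h0 : ∀ᶠ z in 𝓝 z0, (P.map (eval z)).Separable) :
    ∃ τ : ℂ → (Fin n → ℂ) → ℂ,
      (∀ t ∈ (P.map (eval z0)).roots.toFinset, DifferentiableAt ℂ (τ t) z0 ∧ τ t z0 = t) ∧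
      ∀ᶠ z in 𝓝 z0,
        Set.InjOn (fun t => τ t z) ((P.map (eval z0)).roots.toFinset : Set ℂ) ∧
        (P.map (eval z)).roots.toFinset = (P.map (eval z0)).roots.toFinset.image (fun t => τ t z) := by
  classical
  set r0 := (P.map (eval z0)).roots.toFinset with hr0
  have hmem : ∀ z t, t ∈ (P.map (eval z)).roots.toFinset ↔ F P (z, t) = 0 := by
    intro z t
    rw [Multiset.mem_toFinset, Polynomial.mem_roots (hP.map _).ne_zero]
    rfl
  have hsep0 : (P.map (eval z0)).Separable := h0.self_of_nhds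
  have hex : ∀ t : ℂ, ∃ τ : (Fin n → ℂ) → ℂ, t ∈ r0 → (DifferentiableAt ℂ τ z0 ∧ τ z0 = t ∧
      ∀ᶠ z in 𝓝 z0, F P (z, τ z) = 0) := by
    intro t
    by_cases ht : t ∈ r0
    · have ht' : F P (z0, t) = 0 := (hmem z0 t).1 ht
      have h1 : Polynomial.eval t (Polynomial.derivative (P.map (eval z0))) ≠ 0 := by
        obtain ⟨a, b, hab⟩ := hsep0
        intro h2
        have h3 := congrArg (Polynomial.eval t) hab
        rw [Polynomial.eval_add, Polynomial.eval_mul, Polynomial.eval_mul, h2,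
          show Polynomial.eval t (P.map (eval z0)) = 0 from ht'] at h3
        simp at h3
      obtain ⟨τ, hτ⟩ := exists_local_root P z0 t ht' h1
      exact ⟨τ, fun _ => hτ⟩
    · exact ⟨0, fun h => absurd h ht⟩
  choose τ hτ using hex
  refine ⟨τ, fun t ht => ⟨(hτ t ht).1, (hτ t ht).2.1⟩, ?_⟩
  have hcard : ∀ z, (P.map (eval z)).Separable → (P.map (eval z)).roots.toFinset.card = P.natDegree := by
    intro z hz
    rw [Multiset.toFinset_card_of_nodup (Polynomial.nodup_roots hz),
      ← (IsAlgClosed.splits (P.map (eval z))).natDegree_eq_card_roots, hP.natDegree_map]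
  have hroot : ∀ᶠ z in 𝓝 z0, ∀ t ∈ r0, F P (z, τ t z) = 0 := by
    rw [Filter.eventually_all_finset]
    exact fun t ht => (hτ t ht).2.2
  have hinj : ∀ᶠ z in 𝓝 z0, ∀ t ∈ r0, ∀ t' ∈ r0, t ≠ t' → τ t z ≠ τ t' z := by
    rw [Filter.eventually_all_finset]
    intro t ht
    rw [Filter.eventually_all_finset]
    intro t' ht'
    by_cases htt : t = t'
    · exact Filter.Eventually.of_forall fun _ h => absurd htt h
    · have hc : ContinuousAt (fun z => τ t z - τ t' z) z0 :=
        (hτ t ht).1.continuousAt.sub (hτ t' ht').1.continuousAt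
      have hne : (fun z => τ t z - τ t' z) z0 ≠ 0 := by
        simp only
        rw [(hτ t ht).2.1, (hτ t' ht').2.1]
        exact sub_ne_zero.2 htt
      filter_upwards [hc.eventually_ne hne] with z hz _
      exact sub_ne_zero.1 hz
  filter_upwards [h0, hroot, hinj] with z hz hz1 hz2
  have hinjOn : Set.InjOn (fun t => τ t z) (r0 : Set ℂ) := by
    intro t ht t' ht' htt
    by_contra hne
    exact hz2 t ht t' ht' hne htt
  refine ⟨hinjOn, ?_⟩
  symm
  refine Finset.eq_of_subset_of_card_le ?_ ?_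
  · intro t ht
    obtain ⟨t', ht', rfl⟩ := Finset.mem_image.1 ht
    exact (hmem z _).2 (hz1 t' ht')
  · rw [Finset.card_image_of_injOn hinjOn, hcard z hz, hr0, hcard z0 hsep0]

/-- Sums over the roots, with locally constant weights, are holomorphic. -/
theorem differentiableAt_sum_roots (P g : Polynomial (MvPolynomial (Fin n) ℂ)) (hP : P.Monic)
    (z0 : Fin n → ℂ) (h0 : ∀ᶠ z in 𝓝 z0, (P.map (eval z)).Separable)
    (e : (Fin n → ℂ) × ℂ → ℂ)
    (he : ∀ t, F P (z0, t) = 0 → ∀ᶠ q in 𝓝 (z0, t), F P q = 0 → e q = e (z0, t)) :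
    DifferentiableAt ℂ (fun z => ∑ t ∈ (P.map (eval z)).roots.toFinset, e (z, t) * F g (z, t)) z0 := by
  classical
  obtain ⟨τ, hτ, hev⟩ := exists_local_roots P hP z0 h0
  have hmem : ∀ z t, t ∈ (P.map (eval z)).roots.toFinset ↔ F P (z, t) = 0 := by
    intro z t
    rw [Multiset.mem_toFinset, Polynomial.mem_roots (hP.map _).ne_zero]
    rfl
  set r0 := (P.map (eval z0)).roots.toFinset with hr0
  have hd : DifferentiableAt ℂ (fun z => ∑ t ∈ r0, e (z0, t) * F g (z, τ t z)) z0 := by
    refine DifferentiableAt.fun_sum (fun t ht => ?_)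
    refine DifferentiableAt.const_mul ?_ _
    have h1 : DifferentiableAt ℂ (F g) (z0, τ t z0) := (analyticAt_F g _).differentiableAt
    exact h1.comp z0 (differentiableAt_id.prodMk (hτ t ht).1)
  refine hd.congr_of_eventuallyEq ?_
  have hloc : ∀ᶠ z in 𝓝 z0, ∀ t ∈ r0, F P (z, τ t z) = 0 → e (z, τ t z) = e (z0, t) := by
    rw [Filter.eventually_all_finset]
    intro t ht
    have h1 := he t ((hmem z0 t).1 ht)
    have hc : ContinuousAt (fun z => (z, τ t z)) z0 :=
      continuousAt_id.prodMk (hτ t ht).1.continuousAt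
    have h2 : Tendsto (fun z => (z, τ t z)) (𝓝 z0) (𝓝 (z0, t)) := by
      have := hc.tendsto
      simp only [(hτ t ht).2] at this
      exact this
    exact h2.eventually h1
  filter_upwards [hev, hloc] with z hz hz1
  rw [hz.2, Finset.sum_image hz.1]
  refine Finset.sum_congr rfl (fun t ht => ?_)
  have hr : F P (z, τ t z) = 0 := by
    rw [← hmem, hz.2]
    exact Finset.mem_image_of_mem _ ht
  rw [hz1 t ht hr]

end Groth.Agent.An.H869.LocalRoots
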