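import Mathlib.Analysis.Polynomial.CauchyBound
import Mathlib.Analysis.Complex.Basic
import Mathlib.Algebra.MvPolynomial.Eval
import Mathlib.Algebra.Polynomial.Eval.Degree
import Mathlib.Analysis.Normed.Group.Constructions

/-!
# Polynomial growth

`PG b f` : `‖f q‖ ≤ K * (b q) ^ N` for some `K, N`, where `1 ≤ b`.
-/

set_option autoImplicit false

namespace Groth.Agent.An.H869.PolyGrowth

open MvPolynomial

/-- Polynomial growth with respect to the base function `b`. -/
def PG {α : Type*} (b : α → ℝ) (f : α → ℂ) : Prop :=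
  ∃ (K : ℝ) (N : ℕ), 0 ≤ K ∧ ∀ q, ‖f q‖ ≤ K * (b q) ^ N

namespace PG

variable {α : Type*} {b : α → ℝ}

theorem const (c : ℂ) : PG b (fun _ => c) := ⟨‖c‖, 0, norm_nonneg _, fun q => by simp⟩

theorem mono {f g : α → ℂ} (hg : PG b g) (h : ∀ q, ‖f q‖ ≤ ‖g q‖) : PG b f := by
  obtain ⟨K, N, hK, hN⟩ := hg
  exact ⟨K, N, hK, fun q => (h q).trans (hN q)⟩

theorem mul (hb : ∀ q, 1 ≤ b q) {f g : α → ℂ} (hf : PG b f) (hg : PG b g) :
    PG b (fun q => f q * g q) := by
  obtain ⟨K, N, hK, hN⟩ := hf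
  obtain ⟨K', N', hK', hN'⟩ := hg
  refine ⟨K * K', N + N', by positivity, fun q => ?_⟩
  have hb0 : 0 ≤ b q := by linarith [hb q]
  calc ‖f q * g q‖ = ‖f q‖ * ‖g q‖ := norm_mul _ _
    _ ≤ (K * b q ^ N) * (K' * b q ^ N') := by
        gcongr
        · exact hN q
        · exact hN' q
    _ = K * K' * b q ^ (N + N') := by rw [pow_add]; ring

theorem add (hb : ∀ q, 1 ≤ b q) {f g : α → ℂ} (hf : PG b f) (hg : PG b g) :
    PG b (fun q => f q + g q) := by
  obtain ⟨K, N, hK, hN⟩ := hf
  obtain ⟨K', N', hK', hN'⟩ := hg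
  refine ⟨K + K', max N N', by positivity, fun q => ?_⟩
  calc ‖f q + g q‖ ≤ ‖f q‖ + ‖g q‖ := norm_add_le _ _
    _ ≤ K * b q ^ N + K' * b q ^ N' := add_le_add (hN q) (hN' q)
    _ ≤ K * b q ^ (max N N') + K' * b q ^ (max N N') := by
        gcongr
        · exact hb q
        · exact le_max_left _ _
        · exact hb q
        · exact le_max_right _ _
    _ = (K + K') * b q ^ (max N N') := by ring

theorem pow (hb : ∀ q, 1 ≤ b q) {f : α → ℂ} (hf : PG b f) (k : ℕ) :
    PG b (fun q => f q ^ k) := by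
  induction k with
  | zero => simpa using const (b := b) 1
  | succ k ih =>
    simp only [pow_succ]
    exact ih.mul hb hf

theorem sum (hb : ∀ q, 1 ≤ b q) {ι : Type*} (s : Finset ι) {f : ι → α → ℂ}
    (hf : ∀ i ∈ s, PG b (f i)) : PG b (fun q => ∑ i ∈ s, f i q) := by
  classical
  induction s using Finset.induction_on with
  | empty => simpa using const (b := b) 0
  | insert i s hi ih =>
    simp only [Finset.sum_insert hi]
    exact (hf i (by simp)).add hb (ih fun j hj => hf j (by simp [hj]))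

end PG

/-- Polynomials have polynomial growth. -/
theorem pg_eval {n : ℕ} {α : Type*} (φ : α → (Fin n → ℂ)) (p : MvPolynomial (Fin n) ℂ) :
    PG (fun q => 1 + ‖φ q‖) (fun q => eval (φ q) p) := by
  have hb : ∀ q, (1 : ℝ) ≤ 1 + ‖φ q‖ := fun q => by linarith [norm_nonneg (φ q)]
  induction p using MvPolynomial.induction_on with
  | C a => simpa using PG.const (b := fun q => 1 + ‖φ q‖) a
  | add p q hp hq => simpa using hp.add hb hq
  | mul_X p i hp =>
    simp only [map_mul, eval_X]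
    refine hp.mul hb ⟨1, 1, zero_le_one, fun q => ?_⟩
    rw [one_mul, pow_one]
    exact (norm_le_pi_norm (φ q) i).trans (by linarith)

/-- The roots of a monic polynomial have polynomial growth. -/
theorem pg_root {n : ℕ} {α : Type*} (φ : α → (Fin n → ℂ)) (t : α → ℂ)
    (P : Polynomial (MvPolynomial (Fin n) ℂ)) (hP : P.Monic)
    (ht : ∀ q, Polynomial.eval (t q) (P.map (eval (φ q))) = 0) :
    PG (fun q => 1 + ‖φ q‖) t := by
  classical
  have hb : ∀ q, (1 : ℝ) ≤ 1 + ‖φ q‖ := fun q => by linarith [norm_nonneg (φ q)]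
  -- the real number `∑ ‖p_i‖ + 1`, as a function of polynomial growth
  have h1 : PG (fun q => 1 + ‖φ q‖)
      (fun q => (∑ i ∈ Finset.range P.natDegree, ((‖eval (φ q) (P.coeff i)‖ : ℝ) : ℂ)) + 1) := by
    refine (PG.sum hb _ (fun i _ => ?_)).add hb (PG.const 1)
    exact (pg_eval φ (P.coeff i)).mono (fun q => by simp)
  refine h1.mono (fun q => ?_)
  have hm : (P.map (eval (φ q))).Monic := hP.map _
  have h2 := Polynomial.IsRoot.norm_lt_cauchyBound hm.ne_zero (a := t q) (ht q)
  have h3 : ((P.map (eval (φ q))).cauchyBound : ℝ) ≤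
      (∑ i ∈ Finset.range P.natDegree, ‖eval (φ q) (P.coeff i)‖) + 1 := by
    rw [Polynomial.cauchyBound, hm.leadingCoeff]
    simp only [nnnorm_one, div_one, NNReal.coe_add, NNReal.coe_one, Polynomial.coeff_map]
    refine add_le_add ?_ le_rfl
    rw [hP.natDegree_map]
    have h4 : (Finset.range P.natDegree).sup (fun i => ‖eval (φ q) (P.coeff i)‖₊) ≤
        ∑ i ∈ Finset.range P.natDegree, ‖eval (φ q) (P.coeff i)‖₊ :=
      Finset.sup_le fun i hi => Finset.single_le_sum (f := fun i => ‖eval (φ q) (P.coeff i)‖₊)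
        (fun _ _ => zero_le) hi
    calc (((Finset.range P.natDegree).sup (fun i => ‖eval (φ q) (P.coeff i)‖₊) : NNReal) : ℝ)
        ≤ ((∑ i ∈ Finset.range P.natDegree, ‖eval (φ q) (P.coeff i)‖₊ : NNReal) : ℝ) := by
          exact_mod_cast h4
      _ = _ := by simp
  have h5 : ‖t q‖ ≤ (∑ i ∈ Finset.range P.natDegree, ‖eval (φ q) (P.coeff i)‖) + 1 := by
    have : ‖t q‖ < ((P.map (eval (φ q))).cauchyBound : ℝ) := by exact_mod_cast h2
    exact this.le.trans h3
  refine h5.trans (le_of_eq ?_)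
  have h6 : ((∑ i ∈ Finset.range P.natDegree, ((‖eval (φ q) (P.coeff i)‖ : ℝ) : ℂ)) + 1) =
      ((((∑ i ∈ Finset.range P.natDegree, ‖eval (φ q) (P.coeff i)‖) + 1 : ℝ)) : ℂ) := by
    push_cast
    rfl
  rw [h6, Complex.norm_real, Real.norm_of_nonneg]
  exact add_nonneg (Finset.sum_nonneg fun _ _ => norm_nonneg _) zero_le_one

/-- A polynomial in a root of a monic polynomial has polynomial growth. -/
theorem pg_eval_root {n : ℕ} {α : Type*} (φ : α → (Fin n → ℂ)) (t : α → ℂ)
    (P : Polynomial (MvPolynomial (Fin n) ℂ)) (hP : P.Monic)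
    (ht : ∀ q, Polynomial.eval (t q) (P.map (eval (φ q))) = 0)
    (g : Polynomial (MvPolynomial (Fin n) ℂ)) :
    PG (fun q => 1 + ‖φ q‖) (fun q => Polynomial.eval (t q) (g.map (eval (φ q)))) := by
  have hb : ∀ q, (1 : ℝ) ≤ 1 + ‖φ q‖ := fun q => by linarith [norm_nonneg (φ q)]
  induction g using Polynomial.induction_on' with
  | add p q hp hq => simpa using hp.add hb hq
  | monomial k a =>
    simp only [Polynomial.map_monomial, Polynomial.eval_monomial]
    exact (pg_eval φ a).mul hb ((pg_root φ t P hP ht).pow hb k)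

end Groth.Agent.An.H869.PolyGrowth
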