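import Groth.Agent.An.H869.Growth
import Groth.Agent.An.H869.PolyGrowth
import Groth.Agent.An.H869.LocalRoots
import Mathlib.RingTheory.Polynomial.UniqueFactorization

/-!
# The zero set of an irreducible polynomial over the étale locus is connected

`P` monic prime in `ℂ[z₁, …, zₙ][T]` with `u P + v P' = D ≠ 0`.  A locally constant function with
values in `{0, 1}` on `{(z, t) | D(z) ≠ 0, P_z(t) = 0}` is constant.
-/

set_option autoImplicit false

namespace Groth.Agent.An.H869.Interp

open MvPolynomial Topology Filter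
open Groth.Agent.An.H869.LocalRoots Groth.Agent.An.H869.PolyGrowth

variable {n : ℕ}

lemma separable_of_bezout {P u v : Polynomial (MvPolynomial (Fin n) ℂ)} {D : MvPolynomial (Fin n) ℂ}
    (hbez : u * P + v * Polynomial.derivative P = Polynomial.C D) (z : Fin n → ℂ)
    (hz : eval z D ≠ 0) : (P.map (eval z)).Separable := by
  refine ⟨Polynomial.C (eval z D)⁻¹ * u.map (eval z), Polynomial.C (eval z D)⁻¹ * v.map (eval z), ?_⟩
  have h1 := congrArg (Polynomial.map (eval z)) hbez
  rw [Polynomial.map_add, Polynomial.map_mul, Polynomial.map_mul, ← Polynomial.derivative_map,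
    Polynomial.map_C] at h1
  rw [mul_assoc, mul_assoc, ← mul_add, h1, ← Polynomial.C_mul, inv_mul_cancel₀ hz, Polynomial.C_1]

/-- The polynomial `∑_{i > k} T^{i - k - 1} p_i`. -/
noncomputable def gk (P : Polynomial (MvPolynomial (Fin n) ℂ)) (k : ℕ) :
    Polynomial (MvPolynomial (Fin n) ℂ) :=
  ∑ i ∈ Finset.Icc (k + 1) P.natDegree, Polynomial.X ^ (i - (k + 1)) * Polynomial.C (P.coeff i)

lemma F_gk (P : Polynomial (MvPolynomial (Fin n) ℂ)) (hP : P.Monic) (k : ℕ) (q : (Fin n → ℂ) × ℂ) :
    F (gk P k) q = ((P.map (eval q.1)) /ₘ (Polynomial.X - Polynomial.C q.2)).coeff k := by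
  rw [Polynomial.coeff_divByMonic_X_sub_C, F, gk, hP.natDegree_map, Polynomial.map_sum,
    Polynomial.eval_finsetSum]
  refine Finset.sum_congr rfl (fun i _ => ?_)
  simp only [Polynomial.map_mul, Polynomial.map_pow, Polynomial.map_X, Polynomial.map_C,
    Polynomial.eval_mul, Polynomial.eval_pow, Polynomial.eval_X, Polynomial.eval_C,
    Polynomial.coeff_map]

lemma F_mul (P Q : Polynomial (MvPolynomial (Fin n) ℂ)) (q : (Fin n → ℂ) × ℂ) :
    F (P * Q) q = F P q * F Q q := by
  simp [F]

lemma F_sub (P Q : Polynomial (MvPolynomial (Fin n) ℂ)) (q : (Fin n → ℂ) × ℂ) :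
    F (P - Q) q = F P q - F Q q := by
  simp [F]

lemma F_C (D : MvPolynomial (Fin n) ℂ) (q : (Fin n → ℂ) × ℂ) :
    F (Polynomial.C D) q = eval q.1 D := by
  simp [F]

/-- Divisibility by `P` can be tested on the points over the locus `D ≠ 0`. -/
lemma dvd_of_vanish {P G : Polynomial (MvPolynomial (Fin n) ℂ)} (hP : P.Monic)
    {D : MvPolynomial (Fin n) ℂ} (hD : D ≠ 0)
    (hsep : ∀ z, eval z D ≠ 0 → (P.map (eval z)).Separable)
    (hG : ∀ q : (Fin n → ℂ) × ℂ, eval q.1 D ≠ 0 → F P q = 0 → F G q = 0) : P ∣ G := by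
  classical
  rw [← Polynomial.modByMonic_eq_zero_iff_dvd hP]
  have h1 : ∀ z, eval z D ≠ 0 → (G %ₘ P).map (eval z) = 0 := by
    intro z hz
    rw [Polynomial.map_modByMonic _ hP, Polynomial.modByMonic_eq_zero_iff_dvd (hP.map _)]
    have hsp := (IsAlgClosed.splits (P.map (eval z)))
    have hnd := Polynomial.nodup_roots (hsep z hz)
    by_cases hG0 : G.map (eval z) = 0
    · rw [hG0]; exact dvd_zero _
    · refine (Polynomial.Splits.dvd_iff_roots_le_roots hsp (hP.map _).ne_zero hG0).2 ?_
      rw [Multiset.le_iff_subset hnd]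
      intro t ht
      rw [Polynomial.mem_roots (hP.map _).ne_zero] at ht
      rw [Polynomial.mem_roots hG0]
      exact hG (z, t) hz ht
  ext1 k
  rw [Polynomial.coeff_zero]
  by_contra hne
  have hdense := Growth.dense_ne_zero (D * (G %ₘ P).coeff k) (mul_ne_zero hD hne)
  obtain ⟨z, hz⟩ := hdense.nonempty
  rw [Set.mem_ofPred_eq, map_mul] at hz
  refine hz ?_
  have h2 := congrArg (fun p => Polynomial.coeff p k) (h1 z (left_ne_zero_of_mul hz))
  simp only [Polynomial.coeff_map, Polynomial.coeff_zero] at h2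
  rw [h2, mul_zero]

/-- A weighted sum over the roots, with locally constant weights in `{0, 1}`, is a polynomial. -/
lemma exists_sum_roots {P : Polynomial (MvPolynomial (Fin n) ℂ)} (hP : P.Monic)
    {D : MvPolynomial (Fin n) ℂ} (hD : D ≠ 0)
    (hsep : ∀ z, eval z D ≠ 0 → (P.map (eval z)).Separable)
    (e : (Fin n → ℂ) × ℂ → ℂ)
    (he01 : ∀ q, eval q.1 D ≠ 0 → F P q = 0 → e q = 0 ∨ e q = 1)
    (hloc : ∀ q0, eval q0.1 D ≠ 0 → F P q0 = 0 → ∀ᶠ q in 𝓝 q0, F P q = 0 → e q = e q0)
    (g : Polynomial (MvPolynomial (Fin n) ℂ)) :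
    ∃ Q : MvPolynomial (Fin n) ℂ, ∀ z, eval z D ≠ 0 →
      ∑ t ∈ (P.map (eval z)).roots.toFinset, e (z, t) * F g (z, t) = eval z Q := by
  classical
  have hmem : ∀ z t, t ∈ (P.map (eval z)).roots.toFinset ↔ F P (z, t) = 0 := by
    intro z t
    rw [Multiset.mem_toFinset, Polynomial.mem_roots (hP.map _).ne_zero]
    rfl
  obtain ⟨K, N, hK, hN⟩ := pg_eval_root (α := {q : (Fin n → ℂ) × ℂ // F P q = 0})
    (fun q => q.1.1) (fun q => q.1.2) P hP (fun q => q.2) g
  refine Growth.exists_mvPolynomial_of_growth n D hD _ (fun z0 hz0 => ?_) (P.natDegree * K) N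
    (fun z hz => ?_)
  · refine differentiableAt_sum_roots P g hP z0 ?_ e ?_
    · filter_upwards [(Growth.isOpen_ne_zero D).mem_nhds hz0] with z hz using hsep z hz
    · exact fun t ht => hloc (z0, t) hz0 ht
  · have hcard : (P.map (eval z)).roots.toFinset.card ≤ P.natDegree := by
      refine (Multiset.toFinset_card_le _).trans ?_
      exact (Polynomial.card_roots' _).trans Polynomial.natDegree_map_le
    calc ‖∑ t ∈ (P.map (eval z)).roots.toFinset, e (z, t) * F g (z, t)‖
        ≤ ∑ t ∈ (P.map (eval z)).roots.toFinset, ‖e (z, t) * F g (z, t)‖ := norm_sum_le _ _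
      _ ≤ ∑ t ∈ (P.map (eval z)).roots.toFinset, K * (1 + ‖z‖) ^ N := by
          refine Finset.sum_le_sum (fun t ht => ?_)
          have hFt : F P (z, t) = 0 := (hmem z t).1 ht
          have h1 : ‖F g (z, t)‖ ≤ K * (1 + ‖z‖) ^ N := hN ⟨(z, t), hFt⟩
          rcases he01 (z, t) hz hFt with h | h
          · rw [h, zero_mul, norm_zero]; positivity
          · rw [h, one_mul]; exact h1
      _ = (P.map (eval z)).roots.toFinset.card * (K * (1 + ‖z‖) ^ N) := by
          rw [Finset.sum_const, nsmul_eq_mul]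
      _ ≤ P.natDegree * (K * (1 + ‖z‖) ^ N) := by
          gcongr
      _ = P.natDegree * K * (1 + ‖z‖) ^ N := by ring

/-- **Connectedness**: a locally constant function with values in `{0, 1}` on the zero set of an
irreducible polynomial over the étale locus is constant. -/
theorem eq_zero_or_eq_one {P : Polynomial (MvPolynomial (Fin n) ℂ)} (hP : P.Monic) (hprime : Prime P)
    (u v : Polynomial (MvPolynomial (Fin n) ℂ)) (D : MvPolynomial (Fin n) ℂ) (hD : D ≠ 0)
    (hbez : u * P + v * Polynomial.derivative P = Polynomial.C D)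
    (e : (Fin n → ℂ) × ℂ → ℂ)
    (he01 : ∀ q, eval q.1 D ≠ 0 → F P q = 0 → e q = 0 ∨ e q = 1)
    (hloc : ∀ q0, eval q0.1 D ≠ 0 → F P q0 = 0 → ∀ᶠ q in 𝓝 q0, F P q = 0 → e q = e q0) :
    (∀ q, eval q.1 D ≠ 0 → F P q = 0 → e q = 0) ∨ (∀ q, eval q.1 D ≠ 0 → F P q = 0 → e q = 1) := by
  classical
  have hsep : ∀ z, eval z D ≠ 0 → (P.map (eval z)).Separable := separable_of_bezout hbez
  have hmem : ∀ z t, t ∈ (P.map (eval z)).roots.toFinset ↔ F P (z, t) = 0 := by
    intro z t
    rw [Multiset.mem_toFinset, Polynomial.mem_roots (hP.map _).ne_zero]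
    rfl
  choose Q hQ using fun k : ℕ => exists_sum_roots hP hD hsep e he01 hloc (v * gk P k)
  let G : Polynomial (MvPolynomial (Fin n) ℂ) :=
    ∑ k ∈ Finset.range (P.natDegree + 1), Polynomial.C (Q k) * Polynomial.X ^ k
  have hG : ∀ q : (Fin n → ℂ) × ℂ, eval q.1 D ≠ 0 → F P q = 0 → F G q = e q * eval q.1 D := by
    rintro ⟨z, t0⟩ hz ht0
    have h1 : F G (z, t0) = ∑ t ∈ (P.map (eval z)).roots.toFinset, e (z, t) * F v (z, t) *
        Polynomial.eval t0 ((P.map (eval z)) /ₘ (Polynomial.X - Polynomial.C t)) := by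
      have h2 : F G (z, t0) = ∑ k ∈ Finset.range (P.natDegree + 1), eval z (Q k) * t0 ^ k := by
        simp only [F, G, Polynomial.map_sum, Polynomial.eval_finsetSum]
        refine Finset.sum_congr rfl (fun k _ => ?_)
        simp
      rw [h2]
      have h3 : ∀ t, Polynomial.eval t0 ((P.map (eval z)) /ₘ (Polynomial.X - Polynomial.C t)) =
          ∑ k ∈ Finset.range (P.natDegree + 1), F (gk P k) (z, t) * t0 ^ k := by
        intro t
        rw [Polynomial.eval_eq_sum_range' (n := P.natDegree + 1)]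
        · refine Finset.sum_congr rfl (fun k _ => ?_)
          rw [F_gk P hP]
        · rw [Polynomial.natDegree_divByMonic _ (Polynomial.monic_X_sub_C t),
            Polynomial.natDegree_X_sub_C, hP.natDegree_map]
          omega
      simp only [h3, Finset.mul_sum]
      rw [Finset.sum_comm]
      refine Finset.sum_congr rfl (fun k _ => ?_)
      rw [← hQ k z hz, Finset.sum_mul]
      refine Finset.sum_congr rfl (fun t _ => ?_)
      rw [F_mul]
      ring
    rw [h1, Finset.sum_eq_single t0]
    · -- the value of the quotient at the root is the derivative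
      have hroot : (P.map (eval z)).IsRoot t0 := ht0
      have h4 := Polynomial.mul_divByMonic_eq_iff_isRoot.2 hroot
      have h5 := congrArg (fun p => Polynomial.eval t0 (Polynomial.derivative p)) h4
      simp only [Polynomial.derivative_mul, Polynomial.derivative_sub, Polynomial.derivative_X,
        Polynomial.derivative_C, sub_zero, one_mul, Polynomial.eval_add, Polynomial.eval_mul,
        Polynomial.eval_sub, Polynomial.eval_X, Polynomial.eval_C, sub_self, zero_mul, add_zero] at h5
      rw [h5]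
      have h6 := congrArg (fun p => F p (z, t0)) hbez
      simp only [F, Polynomial.map_add, Polynomial.map_mul, Polynomial.eval_add, Polynomial.eval_mul,
        Polynomial.map_C, Polynomial.eval_C, ← Polynomial.derivative_map] at h6
      have h7 : Polynomial.eval t0 (P.map (eval z)) = 0 := ht0
      rw [h7, mul_zero, zero_add] at h6
      rw [mul_assoc]
      simp only [F]
      rw [h6]
    · intro t ht hne
      have hroot : (P.map (eval z)).IsRoot t := (hmem z t).1 ht
      have h4 := Polynomial.mul_divByMonic_eq_iff_isRoot.2 hroot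
      have h5 := congrArg (Polynomial.eval t0) h4
      have h7 : Polynomial.eval t0 (P.map (eval z)) = 0 := ht0
      rw [Polynomial.eval_mul, h7] at h5
      rcases mul_eq_zero.1 h5 with h8 | h8
      · simp only [Polynomial.eval_sub, Polynomial.eval_X, Polynomial.eval_C] at h8
        exact absurd (sub_eq_zero.1 h8).symm hne
      · rw [h8, mul_zero]
    · intro h
      exact absurd ((hmem z t0).2 ht0) h
  have hdvd : P ∣ G * (G - Polynomial.C D) := by
    refine dvd_of_vanish hP hD hsep (fun q hq hPq => ?_)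
    rw [F_mul, F_sub, F_C, hG q hq hPq]
    rcases he01 q hq hPq with h | h <;> rw [h] <;> ring
  have hFdvd : ∀ {A : Polynomial (MvPolynomial (Fin n) ℂ)}, P ∣ A → ∀ q, F P q = 0 → F A q = 0 := by
    rintro A ⟨B, rfl⟩ q hq
    rw [F_mul, hq, zero_mul]
  rcases hprime.dvd_or_dvd hdvd with h | h
  · left
    intro q hq hPq
    have h1 := hFdvd h q hPq
    rw [hG q hq hPq] at h1
    exact (mul_eq_zero.1 h1).resolve_right hq
  · right
    intro q hq hPq
    have h1 := hFdvd h q hPq
    rw [F_sub, F_C, hG q hq hPq, sub_eq_zero] at h1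
    exact mul_right_cancel₀ hq (h1.trans (one_mul _).symm)

end Groth.Agent.An.H869.Interp
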