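import Groth.Agent.An.H869.OneVar
import Mathlib.Algebra.MvPolynomial.Funext
import Mathlib.Algebra.MvPolynomial.Equiv
import Mathlib.LinearAlgebra.Lagrange
import Mathlib.Topology.Algebra.MvPolynomial
import Mathlib.Analysis.Calculus.FDeriv.Pi
import Mathlib.Analysis.Calculus.FDeriv.Comp
import Mathlib.Analysis.Normed.Module.Basic

/-!
# Holomorphic functions of polynomial growth on the complement of a hypersurface in `ℂⁿ`

Such a function is (the restriction of) a polynomial: `exists_mvPolynomial_of_growth`.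
Also `dense_ne_zero` : the non-vanishing locus of a nonzero polynomial is dense in `ℂⁿ`.
-/

set_option autoImplicit false

namespace Groth.Agent.An.H869.Growth

open MvPolynomial Topology Filter

/-- The non-vanishing locus of a nonzero polynomial is dense in `ℂⁿ`. -/
theorem dense_ne_zero {n : ℕ} (F : MvPolynomial (Fin n) ℂ) (hF : F ≠ 0) :
    Dense {z : Fin n → ℂ | eval z F ≠ 0} := by
  rw [dense_iff_inter_open]
  rintro O hO ⟨z0, hz0⟩
  obtain ⟨r, hr, hrO⟩ := Metric.isOpen_iff.1 hO z0 hz0
  by_contra hcon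
  apply hF
  refine MvPolynomial.funext_set (fun i => Metric.ball (z0 i) r) (fun i => ?_) (fun x hx => ?_)
  · exact infinite_of_mem_nhds (z0 i) (Metric.ball_mem_nhds _ hr)
  · rw [map_zero]
    by_contra hne
    refine hcon ⟨x, hrO ?_, hne⟩
    rw [Metric.mem_ball, dist_pi_lt_iff hr]
    exact fun i => hx i (Set.mem_univ i)

theorem isOpen_ne_zero {n : ℕ} (F : MvPolynomial (Fin n) ℂ) :
    IsOpen {z : Fin n → ℂ | eval z F ≠ 0} :=
  isOpen_ne_fun (MvPolynomial.continuous_eval F) continuous_const

/-- A polynomial in the first variable with prescribed coefficients. -/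
lemma norm_cons_le {n : ℕ} (c : ℂ) (z : Fin n → ℂ) :
    ‖(Fin.cons c z : Fin (n + 1) → ℂ)‖ ≤ ‖c‖ + ‖z‖ := by
  rw [pi_norm_le_iff_of_nonneg (by positivity)]
  intro i
  refine Fin.cases ?_ (fun j => ?_) i
  · simp
  · rw [Fin.cons_succ]
    exact (norm_le_pi_norm z j).trans (by linarith [norm_nonneg c])

/-- There are nodes in `ℂ` with nonzero specialisation. -/
lemma exists_nodes {n : ℕ} (D : MvPolynomial (Fin (n + 1)) ℂ) (hD : D ≠ 0) (N : ℕ) :
    ∃ s : Finset ℂ, s.card = N + 1 ∧
      ∀ c ∈ s, Polynomial.eval (C c) (finSuccEquiv ℂ n D) ≠ 0 := by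
  classical
  have hD' : finSuccEquiv ℂ n D ≠ 0 := by
    simpa using (finSuccEquiv ℂ n).injective.ne hD
  have hfin : {c : ℂ | Polynomial.eval (C c : MvPolynomial (Fin n) ℂ) (finSuccEquiv ℂ n D) = 0}.Finite := by
    have h1 := Polynomial.finite_setOfPred_isRoot hD'
    exact h1.preimage (f := fun c : ℂ => (C c : MvPolynomial (Fin n) ℂ)) ((C_injective _ _).injOn)
  obtain ⟨s, hs, hcard⟩ := hfin.infinite_compl.exists_subset_card_eq (N + 1)
  exact ⟨s, hcard, fun c hc => hs hc⟩

lemma eval_cons_eq {n : ℕ} (D : MvPolynomial (Fin (n + 1)) ℂ) (c : ℂ) (z : Fin n → ℂ) :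
    eval (Fin.cons c z : Fin (n + 1) → ℂ) D =
      eval z (Polynomial.eval (C c) (finSuccEquiv ℂ n D)) := by
  rw [eval_eq_eval_mv_eval', ← Polynomial.eval₂_at_apply, Polynomial.eval_map, eval_C]

/-- A holomorphic function of polynomial growth on the complement of a hypersurface in `ℂⁿ` is a
polynomial. -/
theorem exists_mvPolynomial_of_growth (n : ℕ) : ∀ (D : MvPolynomial (Fin n) ℂ) (_ : D ≠ 0)
    (a : (Fin n → ℂ) → ℂ) (_ : ∀ z, eval z D ≠ 0 → DifferentiableAt ℂ a z)
    (K : ℝ) (N : ℕ) (_ : ∀ z, eval z D ≠ 0 → ‖a z‖ ≤ K * (1 + ‖z‖) ^ N),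
    ∃ Q : MvPolynomial (Fin n) ℂ, ∀ z, eval z D ≠ 0 → a z = eval z Q := by
  classical
  induction n with
  | zero =>
    intro D _ a _ K N _
    exact ⟨C (a 0), fun z _ => by rw [eval_C]; congr 1; exact Subsingleton.elim _ _⟩
  | succ n ih =>
    intro D hD a ha K N hK
    obtain ⟨s, hcard, hs⟩ := exists_nodes D hD N
    -- the restriction to the hyperplanes `X 0 = c`
    have h1 : ∀ c ∈ s, ∃ Q : MvPolynomial (Fin n) ℂ, ∀ z : Fin n → ℂ,
        eval z (Polynomial.eval (C c) (finSuccEquiv ℂ n D)) ≠ 0 → a (Fin.cons c z) = eval z Q := by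
      intro c hc
      refine ih _ (hs c hc) (fun z => a (Fin.cons c z)) ?_ (|K| * (1 + ‖c‖) ^ N) N ?_
      · intro z hz
        rw [← eval_cons_eq] at hz
        have h2 : DifferentiableAt ℂ (fun z : Fin n → ℂ => (Fin.cons c z : Fin (n + 1) → ℂ)) z := by
          rw [differentiableAt_pi]
          intro i
          refine Fin.cases ?_ (fun j => ?_) i
          · simp
          · simp only [Fin.cons_succ]
            fun_prop
        exact (ha _ hz).comp z h2
      · intro z hz
        rw [← eval_cons_eq] at hz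
        refine (hK _ hz).trans ?_
        have h3 : (1 + ‖(Fin.cons c z : Fin (n + 1) → ℂ)‖) ^ N ≤ (1 + ‖c‖) ^ N * (1 + ‖z‖) ^ N := by
          rw [← mul_pow]
          refine pow_le_pow_left₀ (by positivity) ?_ _
          have := norm_cons_le c z
          nlinarith [norm_nonneg c, norm_nonneg z]
        calc K * (1 + ‖(Fin.cons c z : Fin (n + 1) → ℂ)‖) ^ N
            ≤ |K| * (1 + ‖(Fin.cons c z : Fin (n + 1) → ℂ)‖) ^ N := by
              gcongr
              exact le_abs_self K
          _ ≤ |K| * ((1 + ‖c‖) ^ N * (1 + ‖z‖) ^ N) := by gcongr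
          _ = |K| * (1 + ‖c‖) ^ N * (1 + ‖z‖) ^ N := by ring
    choose! Q hQ using h1
    -- the candidate polynomial
    let ℓ : ℂ → MvPolynomial (Fin (n + 1)) ℂ := fun c =>
      Polynomial.aeval (X 0 : MvPolynomial (Fin (n + 1)) ℂ) (Lagrange.basis s id c)
    let R : MvPolynomial (Fin (n + 1)) ℂ := ∑ c ∈ s, rename Fin.succ (Q c) * ℓ c
    have hR : ∀ (x : ℂ) (z : Fin n → ℂ), eval (Fin.cons x z : Fin (n + 1) → ℂ) R =
        ∑ c ∈ s, eval z (Q c) * Polynomial.eval x (Lagrange.basis s id c) := by
      intro x z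
      simp only [R, ℓ, map_sum, map_mul]
      refine Finset.sum_congr rfl (fun c _ => ?_)
      congr 1
      · rw [eval_rename]
        rfl
      · rw [Polynomial.aeval_def, Polynomial.hom_eval₂, eval_X, Fin.cons_zero]
        have : ((eval (Fin.cons x z : Fin (n + 1) → ℂ)).comp
            (algebraMap ℂ (MvPolynomial (Fin (n + 1)) ℂ))) = RingHom.id ℂ := by
          ext c; simp
        rw [this]
        simp
    let W : MvPolynomial (Fin n) ℂ := ∏ c ∈ s, Polynomial.eval (C c) (finSuccEquiv ℂ n D)
    have hW : W ≠ 0 := Finset.prod_ne_zero_iff.2 hs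
    have hsne : s.Nonempty := by
      rw [← Finset.card_pos, hcard]
      omega
    have key : ∀ (x : ℂ) (z : Fin n → ℂ), eval z W ≠ 0 → eval (Fin.cons x z : Fin (n + 1) → ℂ) D ≠ 0 →
        a (Fin.cons x z) = eval (Fin.cons x z : Fin (n + 1) → ℂ) R := by
      intro x z hz hxz
      have hzc : ∀ c ∈ s, eval z (Polynomial.eval (C c) (finSuccEquiv ℂ n D)) ≠ 0 := by
        intro c hc h0
        apply hz
        rw [map_prod]
        exact Finset.prod_eq_zero hc h0
      let p : Polynomial ℂ := Polynomial.map (eval z) (finSuccEquiv ℂ n D)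
      have hp : ∀ x, eval (Fin.cons x z : Fin (n + 1) → ℂ) D = p.eval x := fun x =>
        eval_eq_eval_mv_eval' _ _ _
      obtain ⟨c0, hc0⟩ := hsne
      have hp0 : p ≠ 0 := by
        intro h0
        apply hzc c0 hc0
        rw [← eval_cons_eq, hp, h0, Polynomial.eval_zero]
      have hroots : ∀ y, y ∉ p.roots.toFinset ↔ p.eval y ≠ 0 := by
        intro y
        rw [Multiset.mem_toFinset, Polynomial.mem_roots hp0]
        rfl
      obtain ⟨q, hq, hqe⟩ := OneVar.exists_polynomial_of_growth_off_finset p.roots.toFinset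
        (fun y => a (Fin.cons y z)) (by
          intro y hy
          rw [hroots, ← hp] at hy
          have h2 : DifferentiableAt ℂ (fun y : ℂ => (Fin.cons y z : Fin (n + 1) → ℂ)) y := by
            rw [differentiableAt_pi]
            intro i
            refine Fin.cases ?_ (fun j => ?_) i
            · simp only [Fin.cons_zero]
              fun_prop
            · simp
          exact (ha _ hy).comp y h2) (|K| * (1 + ‖z‖) ^ N) N (by
          intro y hy
          rw [hroots, ← hp] at hy
          refine (hK _ hy).trans ?_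
          have h3 : (1 + ‖(Fin.cons y z : Fin (n + 1) → ℂ)‖) ^ N ≤ (1 + ‖z‖) ^ N * (1 + ‖y‖) ^ N := by
            rw [← mul_pow]
            refine pow_le_pow_left₀ (by positivity) ?_ _
            have := norm_cons_le y z
            nlinarith [norm_nonneg y, norm_nonneg z]
          calc K * (1 + ‖(Fin.cons y z : Fin (n + 1) → ℂ)‖) ^ N
              ≤ |K| * (1 + ‖(Fin.cons y z : Fin (n + 1) → ℂ)‖) ^ N := by
                gcongr
                exact le_abs_self K
            _ ≤ |K| * ((1 + ‖z‖) ^ N * (1 + ‖y‖) ^ N) := by gcongr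
            _ = |K| * (1 + ‖z‖) ^ N * (1 + ‖y‖) ^ N := by ring)
      have hinterp : q = Lagrange.interpolate s id (fun c => eval z (Q c)) := by
        refine Lagrange.eq_interpolate_of_eval_eq _ Function.injective_id.injOn ?_ ?_
        · rw [hcard]
          refine lt_of_le_of_lt (Polynomial.degree_le_natDegree) ?_
          exact_mod_cast Nat.lt_succ_of_le hq
        · intro c hc
          have hc' := hzc c hc
          rw [id_eq, ← hQ c hc z hc', ← hqe]
          rw [hroots, ← hp, eval_cons_eq]
          exact hc'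
      rw [hR, hqe x (by rw [hroots, ← hp]; exact hxz), hinterp, Lagrange.interpolate_apply,
        Polynomial.eval_finsetSum]
      refine Finset.sum_congr rfl (fun c _ => ?_)
      rw [Polynomial.eval_mul, Polynomial.eval_C]
    refine ⟨R, fun z0 hz0 => ?_⟩
    -- density
    let F : MvPolynomial (Fin (n + 1)) ℂ := rename Fin.succ W
    have hF : F ≠ 0 := by
      intro h0
      apply hW
      exact rename_injective Fin.succ (Fin.succ_injective n) (by simpa [F] using h0)
    have hFe : ∀ z : Fin (n + 1) → ℂ, eval z F = eval (Fin.tail z) W := by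
      intro z
      simp only [F, eval_rename]
      rfl
    have hdense := dense_ne_zero F hF
    have hmem : z0 ∈ closure {z : Fin (n + 1) → ℂ | eval z F ≠ 0} := hdense z0
    have hfreq : ∃ᶠ z in 𝓝 z0, eval z F ≠ 0 := mem_closure_iff_frequently.1 hmem
    have hcont : ContinuousAt (fun z => a z - eval z R) z0 :=
      (ha z0 hz0).continuousAt.sub (MvPolynomial.continuous_eval R).continuousAt
    have hU : ∀ᶠ z in 𝓝 z0, eval z D ≠ 0 := (isOpen_ne_zero D).mem_nhds hz0
    have hfreq' : ∃ᶠ z in 𝓝 z0, a z - eval z R = 0 := by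
      refine (hfreq.and_eventually hU).mono ?_
      rintro z ⟨hz1, hz2⟩
      rw [sub_eq_zero]
      have hzc : z = Fin.cons (z 0) (Fin.tail z) := (Fin.cons_self_tail z).symm
      rw [hFe] at hz1
      rw [hzc] at hz2 ⊢
      exact key _ _ hz1 hz2
    by_contra hne
    have : ∀ᶠ z in 𝓝 z0, a z - eval z R ≠ 0 := hcont.eventually_ne (sub_ne_zero.2 hne)
    exact hfreq' (this.mono fun z hz h => hz h)

end Groth.Agent.An.H869.Growth
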