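import Mathlib.Analysis.Complex.RemovableSingularity
import Mathlib.Analysis.Complex.TaylorSeries
import Mathlib.Analysis.Complex.Liouville
import Mathlib.Algebra.Polynomial.Eval.Degree

/-!
# Functions of one complex variable of polynomial growth off a finite set

A function `g : ℂ → ℂ`, differentiable off a finite set, with `‖g x‖ ≤ K * (1 + ‖x‖) ^ N` there,
agrees off this set with a polynomial of degree at most `N`.
-/

set_option autoImplicit false

namespace Groth.Agent.An.H869.OneVar

open Filter Topology Polynomial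

/-- An entire function of polynomial growth is a polynomial. -/
theorem exists_polynomial_of_growth {g : ℂ → ℂ} (hg : Differentiable ℂ g) (K : ℝ) (N : ℕ)
    (hK : ∀ x, ‖g x‖ ≤ K * (1 + ‖x‖) ^ N) :
    ∃ p : ℂ[X], p.natDegree ≤ N ∧ ∀ x, g x = p.eval x := by
  have hzero : ∀ k : ℕ, N < k → iteratedDeriv k g 0 = 0 := by
    intro k hk
    rw [← norm_le_zero_iff]
    have hlim : Tendsto (fun R : ℝ => (k.factorial : ℝ) * (K * (1 + R) ^ N) / R ^ k) atTop (𝓝 0) := by
      have h1 : Tendsto (fun R : ℝ => ((k.factorial : ℝ) * K) * (((1 + R) / R) ^ N * (R⁻¹) ^ (k - N)))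
          atTop (𝓝 ((k.factorial : ℝ) * K * (1 ^ N * 0 ^ (k - N)))) := by
        refine Tendsto.const_mul _ (Tendsto.mul (Tendsto.pow ?_ _) (Tendsto.pow ?_ _))
        · have : Tendsto (fun R : ℝ => R⁻¹ + 1) atTop (𝓝 (0 + 1)) :=
            tendsto_inv_atTop_zero.add tendsto_const_nhds
          rw [zero_add] at this
          refine this.congr' ?_
          filter_upwards [eventually_gt_atTop 0] with R hR
          field_simp
        · exact tendsto_inv_atTop_zero
      rw [zero_pow (by omega), mul_zero, mul_zero] at h1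
      refine h1.congr' ?_
      filter_upwards [eventually_gt_atTop 0] with R hR
      have hk' : R ^ k = R ^ N * R ^ (k - N) := by rw [← pow_add]; congr 1; omega
      rw [hk', div_pow, inv_pow]
      field_simp
    refine ge_of_tendsto hlim ?_
    filter_upwards [eventually_gt_atTop 0] with R hR
    refine Complex.norm_iteratedDeriv_le_of_forall_mem_sphere_norm_le k hR hg.diffContOnCl ?_
    intro z hz
    rw [mem_sphere_zero_iff_norm] at hz
    have := hK z
    rwa [hz] at this
  refine ⟨∑ k ∈ Finset.range (N + 1), C ((k.factorial : ℂ)⁻¹ * iteratedDeriv k g 0) * X ^ k, ?_, ?_⟩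
  · refine natDegree_sum_le_of_forall_le _ _ (fun k hk => ?_)
    exact (natDegree_C_mul_X_pow_le _ _).trans (Nat.lt_succ_iff.1 (Finset.mem_range.1 hk))
  · intro x
    rw [← Complex.taylorSeries_eq_of_entire' 0 x hg, eval_finsetSum,
      tsum_eq_sum (s := Finset.range (N + 1))]
    · refine Finset.sum_congr rfl (fun k _ => ?_)
      simp
    · intro k hk
      rw [Finset.mem_range, not_lt] at hk
      rw [hzero k (by omega)]
      simp

/-- A function differentiable off a finite set and locally bounded extends to an entire function. -/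
theorem exists_entire_of_bounded (S : Finset ℂ) : ∀ (g : ℂ → ℂ)
    (_ : ∀ x, x ∉ S → DifferentiableAt ℂ g x)
    (_ : ∀ s, ∃ B : ℝ, ∀ᶠ x in 𝓝[≠] s, ‖g x‖ ≤ B),
    ∃ G : ℂ → ℂ, Differentiable ℂ G ∧ ∀ x, x ∉ S → G x = g x := by
  classical
  induction S using Finset.induction_on with
  | empty => intro g hg _; exact ⟨g, fun x => hg x (by simp), fun _ _ => rfl⟩
  | insert c S hc ih =>
    intro g hg hb
    obtain ⟨B, hB⟩ := hb c
    have hSc : ((S : Set ℂ)ᶜ) ∈ 𝓝 c := (S.finite_toSet.isClosed.isOpen_compl).mem_nhds (by simpa using hc)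
    rw [eventually_nhdsWithin_iff] at hB
    set s : Set ℂ := (S : Set ℂ)ᶜ ∩ {x | x ∈ ({c} : Set ℂ)ᶜ → ‖g x‖ ≤ B} with hs
    have hsc : s ∈ 𝓝 c := inter_mem hSc hB
    have hd : DifferentiableOn ℂ g (s \ {c}) := by
      intro x hx
      refine (hg x ?_).differentiableWithinAt
      simp only [Finset.mem_insert, not_or]
      exact ⟨hx.2, by simpa using hx.1.1⟩
    have hbd : BddAbove (norm ∘ g '' (s \ {c})) := by
      refine ⟨B, ?_⟩
      rintro _ ⟨x, hx, rfl⟩
      exact hx.1.2 hx.2
    have hext := Complex.differentiableOn_update_limUnder_of_bddAbove hsc hd hbd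
    set g' := Function.update g c (limUnder (𝓝[≠] c) g) with hg'
    have hg'eq : ∀ x, x ≠ c → g' =ᶠ[𝓝 x] g := by
      intro x hx
      filter_upwards [isOpen_ne.mem_nhds hx] with y hy
      rw [hg', Function.update_of_ne hy]
    obtain ⟨G, hG, hGe⟩ := ih g' (by
      intro x hx
      by_cases hxc : x = c
      · subst hxc
        exact hext.differentiableAt hsc
      · exact (hg x (by simp [hxc, hx])).congr_of_eventuallyEq (hg'eq x hxc)) (by
      intro t
      obtain ⟨B', hB'⟩ := hb t
      by_cases htc : t = c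
      · subst htc
        refine ⟨B', ?_⟩
        filter_upwards [hB', self_mem_nhdsWithin] with x hx hxt
        rw [hg', Function.update_of_ne hxt]
        exact hx
      · refine ⟨B', ?_⟩
        filter_upwards [hB', (hg'eq t htc).filter_mono nhdsWithin_le_nhds] with x hx hxt
        rw [hxt]
        exact hx)
    refine ⟨G, hG, fun x hx => ?_⟩
    simp only [Finset.mem_insert, not_or] at hx
    rw [hGe x hx.2, hg', Function.update_of_ne hx.1]

/-- A function of polynomial growth, differentiable off a finite set, is a polynomial there. -/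
theorem exists_polynomial_of_growth_off_finset (S : Finset ℂ) (g : ℂ → ℂ)
    (hg : ∀ x, x ∉ S → DifferentiableAt ℂ g x) (K : ℝ) (N : ℕ)
    (hK : ∀ x, x ∉ S → ‖g x‖ ≤ K * (1 + ‖x‖) ^ N) :
    ∃ p : ℂ[X], p.natDegree ≤ N ∧ ∀ x, x ∉ S → g x = p.eval x := by
  have hS : ∀ s : ℂ, ∀ᶠ x in 𝓝[≠] s, x ∉ S := by
    intro s
    have : ((S : Set ℂ) \ {s})ᶜ ∈ 𝓝 s :=
      ((S.finite_toSet.subset Set.sdiff_subset).isClosed.isOpen_compl).mem_nhds (by simp)
    rw [eventually_nhdsWithin_iff]
    filter_upwards [this] with x hx hxs hxS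
    exact hx ⟨hxS, hxs⟩
  obtain ⟨G, hG, hGe⟩ := exists_entire_of_bounded S g hg (by
    intro s
    refine ⟨K * (1 + ‖s‖) ^ N + 1, ?_⟩
    have hc : Continuous (fun x : ℂ => K * (1 + ‖x‖) ^ N) := by fun_prop
    have h1 : ∀ᶠ x in 𝓝 s, K * (1 + ‖x‖) ^ N < K * (1 + ‖s‖) ^ N + 1 :=
      (hc.tendsto s).eventually_lt_const (by linarith)
    filter_upwards [hS s, h1.filter_mono nhdsWithin_le_nhds] with x hx hx'
    exact (hK x hx).trans hx'.le)
  have hGK : ∀ x, ‖G x‖ ≤ K * (1 + ‖x‖) ^ N := by
    intro x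
    have hc : ContinuousAt (fun x : ℂ => K * (1 + ‖x‖) ^ N) x := by fun_prop
    have hc' : ContinuousAt (fun x : ℂ => ‖G x‖) x := (hG x).continuousAt.norm
    refine le_of_tendsto_of_tendsto (hc'.tendsto.mono_left nhdsWithin_le_nhds)
      (hc.tendsto.mono_left nhdsWithin_le_nhds) (b := 𝓝[≠] x) ?_
    filter_upwards [hS x] with y hy
    rw [hGe y hy]
    exact hK y hy
  obtain ⟨p, hp, hpe⟩ := exists_polynomial_of_growth hG K N hGK
  exact ⟨p, hp, fun x hx => by rw [← hGe x hx, hpe]⟩

end Groth.Agent.An.H869.OneVar
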