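import Mathlib.FieldTheory.PrimitiveElement
import Mathlib.FieldTheory.Minpoly.IsIntegrallyClosed
import Mathlib.RingTheory.Algebraic.Integral
import Mathlib.RingTheory.Localization.Integral
import Mathlib.RingTheory.Localization.Finiteness

/-!
# Primitive elements for finite extensions of integrally closed domains in characteristic zero

`R → A` finite injective extension of domains, `R` integrally closed of characteristic zero.
There are `t ∈ A` and `D ∈ R` nonzero such that `D • A ⊆ R[t]` and `u P + v P' = D` for `P` the
minimal polynomial of `t`.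
-/

set_option autoImplicit false

namespace Groth.Agent.An.H869.Prim

open Polynomial nonZeroDivisors

theorem exists_primitive (R A : Type*) [CommRing R] [IsDomain R] [IsIntegrallyClosed R] [CharZero R]
    [CommRing A] [IsDomain A] [Algebra R A] [FaithfulSMul R A] [Module.Finite R A] :
    ∃ (t : A) (u v : R[X]) (D : R), D ≠ 0 ∧
      u * minpoly R t + v * derivative (minpoly R t) = C D ∧
      ∀ a : A, ∃ h : R[X], algebraMap R A D * a = aeval t h := by
  classical
  let K := FractionRing R
  let L := FractionRing A
  let _ : Algebra K L := FractionRing.liftAlgebra R L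
  have : IsScalarTower R K L := FractionRing.isScalarTower_liftAlgebra R L
  have : Algebra.IsAlgebraic R A := inferInstance
  have : IsLocalization (Algebra.algebraMapSubmonoid A R⁰) L := inferInstance
  have : Module.Finite K L := Module.Finite.of_isLocalization R A R⁰
  have : CharZero K := charZero_of_injective_algebraMap (IsFractionRing.injective R K)
  obtain ⟨α, hα⟩ := Field.exists_primitive_element K L
  -- replace `α` by an element of `A`
  obtain ⟨⟨a, s⟩, has⟩ := IsLocalization.surj (Algebra.algebraMapSubmonoid A R⁰) α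
  obtain ⟨b, hb, hbs⟩ := s.2
  have hb0 : b ≠ 0 := nonZeroDivisors.ne_zero hb
  have hbK : algebraMap R K b ≠ 0 := by
    rw [Ne, IsFractionRing.to_map_eq_zero_iff]; exact hb0
  have haL : algebraMap A L a = algebraMap K L (algebraMap R K b) * α := by
    rw [← has, ← hbs, ← IsScalarTower.algebraMap_apply R K L, IsScalarTower.algebraMap_apply R A L,
      mul_comm]
  have hprim : Algebra.adjoin K {algebraMap A L a} = ⊤ := by
    rw [eq_top_iff, ← IntermediateField.top_toSubalgebra, ← hα,
      IntermediateField.adjoin_simple_toSubalgebra_of_isAlgebraic (Algebra.IsAlgebraic.isAlgebraic α)]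
    refine Algebra.adjoin_le ?_
    rw [Set.singleton_subset_iff]
    have h1 : α = algebraMap K L (algebraMap R K b)⁻¹ * algebraMap A L a := by
      rw [haL, ← mul_assoc, ← map_mul, inv_mul_cancel₀ hbK, map_one, one_mul]
    rw [h1, SetLike.mem_coe]
    exact Subalgebra.mul_mem _ (Subalgebra.algebraMap_mem _ _)
      (Algebra.subset_adjoin (Set.mem_singleton _))
  have hint : IsIntegral R a := Algebra.IsIntegral.isIntegral a
  have hmin : minpoly K (algebraMap A L a) = (minpoly R a).map (algebraMap R K) :=
    minpoly.isIntegrallyClosed_eq_field_fractions K L hint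
  -- every element of `A` is, up to a denominator, a polynomial in `a`
  have hden : ∀ x : A, ∃ (d : R), d ≠ 0 ∧ ∃ h : R[X], algebraMap R A d * x = aeval a h := by
    intro x
    have hx : algebraMap A L x ∈ Algebra.adjoin K {algebraMap A L a} := by rw [hprim]; trivial
    rw [Algebra.adjoin_singleton_eq_range_aeval] at hx
    obtain ⟨q, hq⟩ := hx
    obtain ⟨d, hd, hdq⟩ := IsLocalization.integerNormalization_spec R⁰ q
    refine ⟨d, nonZeroDivisors.ne_zero hd, IsLocalization.integerNormalization R⁰ q, ?_⟩
    apply IsFractionRing.injective A L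
    have h2 := congrArg (aeval (algebraMap A L a)) hdq
    have hq' : aeval (algebraMap A L a) q = algebraMap A L x := hq
    rw [aeval_map_algebraMap, AlgHom.map_smul_of_tower, hq', Algebra.smul_def] at h2
    rw [map_mul, ← aeval_algebraMap_apply, h2, ← IsScalarTower.algebraMap_apply R A L]
  choose d hd h hh using hden
  obtain ⟨s, hs⟩ := (Module.Finite.fg_top : (⊤ : Submodule R A).FG)
  let D2 : R := ∏ x ∈ s, d x
  have hD2 : D2 ≠ 0 := Finset.prod_ne_zero_iff.2 fun x _ => hd x
  have hD2' : ∀ x : A, ∃ h : R[X], algebraMap R A D2 * x = aeval a h := by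
    intro x
    have hx : x ∈ Submodule.span R (s : Set A) := by rw [hs]; trivial
    induction hx using Submodule.span_induction with
    | mem y hy =>
      refine ⟨C (∏ x ∈ s.erase y, d x) * h y, ?_⟩
      rw [map_mul, aeval_C, ← hh y, ← mul_assoc, ← map_mul, Finset.prod_erase_mul _ _ hy]
    | zero => exact ⟨0, by simp⟩
    | add y z _ _ hy hz =>
      obtain ⟨h1, hh1⟩ := hy
      obtain ⟨h2, hh2⟩ := hz
      exact ⟨h1 + h2, by rw [mul_add, hh1, hh2, map_add]⟩
    | smul r y _ hy =>
      obtain ⟨h1, hh1⟩ := hy
      exact ⟨C r * h1, by rw [map_mul, aeval_C, ← hh1, Algebra.smul_def]; ring⟩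
  -- the Bezout relation
  have hsep : (minpoly K (algebraMap A L a)).Separable :=
    Algebra.IsSeparable.isSeparable K (algebraMap A L a)
  obtain ⟨u, v, huv⟩ := hsep
  obtain ⟨b1, hb1, hb1u⟩ := IsLocalization.integerNormalization_spec R⁰ u
  obtain ⟨b2, hb2, hb2v⟩ := IsLocalization.integerNormalization_spec R⁰ v
  set U := IsLocalization.integerNormalization R⁰ u
  set V := IsLocalization.integerNormalization R⁰ v
  have hb10 : b1 ≠ 0 := nonZeroDivisors.ne_zero hb1
  have hb20 : b2 ≠ 0 := nonZeroDivisors.ne_zero hb2
  have hbez : (C b2 * U) * minpoly R a + (C b1 * V) * derivative (minpoly R a) = C (b1 * b2) := by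
    apply Polynomial.map_injective (algebraMap R K) (IsFractionRing.injective R K)
    rw [Polynomial.map_add, Polynomial.map_mul, Polynomial.map_mul, Polynomial.map_mul,
      Polynomial.map_mul, ← derivative_map, ← hmin, hb1u, hb2v, map_C, map_C, map_C]
    have h3 : ∀ (r : R) (p : K[X]), r • p = C (algebraMap R K r) * p := by
      intro r p
      rw [← Polynomial.smul_eq_C_mul, algebraMap_smul]
    rw [h3, h3, map_mul, C_mul]
    linear_combination (C (algebraMap R K b1) * C (algebraMap R K b2)) * huv
  refine ⟨a, C D2 * (C b2 * U), C D2 * (C b1 * V), D2 * (b1 * b2),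
    mul_ne_zero hD2 (mul_ne_zero hb10 hb20), ?_, ?_⟩
  · rw [C_mul, ← hbez]
    ring
  · intro x
    obtain ⟨h1, hh1⟩ := hD2' x
    refine ⟨C (b1 * b2) * h1, ?_⟩
    rw [map_mul, map_mul (aeval a), aeval_C, ← hh1]
    ring

end Groth.Agent.An.H869.Prim
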