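import Groth.Agent.An.H869.Interp
import Groth.Agent.An.H869.Prim
import Mathlib.RingTheory.NoetherNormalization
import Mathlib.RingTheory.Polynomial.RationalRoot
import Mathlib.RingTheory.Polynomial.UniqueFactorization
import Mathlib.Algebra.MvPolynomial.CommRing

/-!
# The complex points of an affine variety: connectedness of the étale locus

`A` a domain of finite type over `ℂ`.  There is a nonzero `f ∈ A` such that, for every subset `E` of
`A →ₐ[ℂ] ℂ` which is open and closed (for the topology of pointwise convergence), either every `x`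
with `x f ≠ 0` is in `E` or no such `x` is.
-/

set_option autoImplicit false

namespace Groth.Agent.An.H869.Points

open MvPolynomial Topology Filter
open Groth.Agent.An.H869.LocalRoots

/-- `E` is open for the topology of pointwise convergence. -/
def WOpen {A : Type*} [CommRing A] [Algebra ℂ A] (E : Set (A →ₐ[ℂ] ℂ)) : Prop :=
  ∀ x ∈ E, ∃ (S : Finset A) (ε : ℝ), 0 < ε ∧ ∀ y : A →ₐ[ℂ] ℂ, (∀ s ∈ S, ‖y s - x s‖ < ε) → y ∈ E

section point

variable {A : Type*} [CommRing A] [IsDomain A] [Algebra ℂ A] {n : ℕ}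
  [Algebra (MvPolynomial (Fin n) ℂ) A] [IsScalarTower ℂ (MvPolynomial (Fin n) ℂ) A]
  (t : A) (P : Polynomial (MvPolynomial (Fin n) ℂ))
  (hP : ∀ p : Polynomial (MvPolynomial (Fin n) ℂ), Polynomial.aeval t p = 0 → P ∣ p)
  (D : MvPolynomial (Fin n) ℂ) (h : A → Polynomial (MvPolynomial (Fin n) ℂ))
  (hh : ∀ a, algebraMap (MvPolynomial (Fin n) ℂ) A D * a = Polynomial.aeval t (h a))

include hP in
lemma F_congr (q : (Fin n → ℂ) × ℂ) (hq : F P q = 0) {p p' : Polynomial (MvPolynomial (Fin n) ℂ)}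
    (hpp : Polynomial.aeval t p = Polynomial.aeval t p') : F p q = F p' q := by
  have h1 : P ∣ p - p' := hP _ (by rw [map_sub, hpp, sub_self])
  obtain ⟨r, hr⟩ := h1
  rw [← sub_eq_zero, ← Interp.F_sub, hr, Interp.F_mul, hq, zero_mul]

lemma F_add (P Q : Polynomial (MvPolynomial (Fin n) ℂ)) (q : (Fin n → ℂ) × ℂ) :
    F (P + Q) q = F P q + F Q q := by
  simp [F]

/-- The complex point of `A` attached to `(z, t₀)` with `P_z(t₀) = 0` and `D(z) ≠ 0`. -/
noncomputable def point (q : (Fin n → ℂ) × ℂ) (hq : F P q = 0) (hD : eval q.1 D ≠ 0) :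
    A →ₐ[ℂ] ℂ where
  toFun a := F (h a) q / eval q.1 D
  map_one' := by
    rw [F_congr t P hP q hq (p := h 1) (p' := Polynomial.C D), Interp.F_C, div_self hD]
    rw [← hh, mul_one, Polynomial.aeval_C]
  map_mul' a b := by
    have h1 : F (Polynomial.C D * h (a * b)) q = F (h a * h b) q := by
      apply F_congr t P hP q hq
      rw [map_mul, map_mul, ← hh, ← hh, ← hh, Polynomial.aeval_C]
      ring
    rw [Interp.F_mul, Interp.F_mul, Interp.F_C] at h1
    field_simp
    rw [← h1]
    ring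
  map_zero' := by
    rw [F_congr t P hP q hq (p := h 0) (p' := 0)]
    · simp [F]
    · rw [← hh, mul_zero, map_zero]
  map_add' a b := by
    rw [F_congr t P hP q hq (p := h (a + b)) (p' := h a + h b), F_add, add_div]
    rw [map_add, ← hh, ← hh, ← hh, mul_add]
  commutes' c := by
    rw [F_congr t P hP q hq (p := h (algebraMap ℂ A c)) (p' := Polynomial.C (D * C c)), Interp.F_C,
      map_mul, eval_C, mul_div_cancel_left₀ _ hD]
    · rfl
    · rw [← hh, Polynomial.aeval_C, map_mul]
      congr 1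
      rw [IsScalarTower.algebraMap_apply ℂ (MvPolynomial (Fin n) ℂ) A]
      rfl

lemma point_apply (q : (Fin n → ℂ) × ℂ) (hq : F P q = 0) (hD : eval q.1 D ≠ 0) (a : A) :
    point t P hP D h hh q hq hD a = F (h a) q / eval q.1 D := rfl

/-- The coordinates of a complex point. -/
noncomputable def coords (x : A →ₐ[ℂ] ℂ) : (Fin n → ℂ) × ℂ :=
  (fun i => x (algebraMap (MvPolynomial (Fin n) ℂ) A (X i)), x t)

lemma eval_coords (x : A →ₐ[ℂ] ℂ) (p : MvPolynomial (Fin n) ℂ) :
    eval (coords t x).1 p = x (algebraMap (MvPolynomial (Fin n) ℂ) A p) := by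
  have h1 : (eval (coords (n := n) t x).1 : MvPolynomial (Fin n) ℂ →+* ℂ) =
      (x : A →+* ℂ).comp (algebraMap (MvPolynomial (Fin n) ℂ) A) := by
    refine MvPolynomial.ringHom_ext (fun c => ?_) (fun i => ?_)
    · rw [eval_C, RingHom.comp_apply]
      have : algebraMap (MvPolynomial (Fin n) ℂ) A (C c) = algebraMap ℂ A c := by
        rw [IsScalarTower.algebraMap_apply ℂ (MvPolynomial (Fin n) ℂ) A]
        rfl
      rw [this]
      exact (x.commutes c).symm
    · rw [eval_X, RingHom.comp_apply]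
      rfl
  exact congrArg (fun f => f p) h1

lemma F_coords (x : A →ₐ[ℂ] ℂ) (p : Polynomial (MvPolynomial (Fin n) ℂ)) :
    F p (coords t x) = x (Polynomial.aeval t p) := by
  induction p using Polynomial.induction_on' with
  | add p q hp hq => rw [F_add, hp, hq, map_add, map_add]
  | monomial k a =>
    rw [F, Polynomial.map_monomial, Polynomial.eval_monomial, eval_coords, Polynomial.aeval_monomial,
      map_mul, map_pow]
    rfl

lemma eq_point (hPt : Polynomial.aeval t P = 0) (x : A →ₐ[ℂ] ℂ)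
    (hx : x (algebraMap (MvPolynomial (Fin n) ℂ) A D) ≠ 0) :
    ∃ (hq : F P (coords t x) = 0) (hD : eval (coords t x).1 D ≠ 0),
      x = point t P hP D h hh (coords t x) hq hD := by
  refine ⟨?_, ?_, ?_⟩
  · rw [F_coords, hPt, map_zero]
  · rwa [eval_coords]
  · ext a
    rw [point_apply, F_coords, eval_coords, ← hh, map_mul, mul_div_cancel_left₀ _ hx]

lemma eventually_close (q0 : (Fin n → ℂ) × ℂ) (hq0 : F P q0 = 0) (hD0 : eval q0.1 D ≠ 0)
    (S : Finset A) (ε : ℝ) (hε : 0 < ε) :
    ∀ᶠ q in 𝓝 q0, ∀ (hq : F P q = 0) (hD : eval q.1 D ≠ 0), ∀ s ∈ S,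
      ‖point t P hP D h hh q hq hD s - point t P hP D h hh q0 hq0 hD0 s‖ < ε := by
  have h1 : ∀ᶠ q in 𝓝 q0, ∀ s ∈ S, ‖F (h s) q / eval q.1 D - F (h s) q0 / eval q0.1 D‖ < ε := by
    rw [Filter.eventually_all_finset]
    intro s _
    have hc : ContinuousAt (fun q : (Fin n → ℂ) × ℂ => F (h s) q / eval q.1 D) q0 :=
      (continuous_F (h s)).continuousAt.div
        ((MvPolynomial.continuous_eval D).comp continuous_fst).continuousAt hD0
    have := Metric.tendsto_nhds.1 hc.tendsto ε hε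
    filter_upwards [this] with q hq
    rwa [dist_eq_norm] at hq
  filter_upwards [h1] with q hq hq' hD' s hs
  exact hq s hs

end point

/-- **Connectedness of the étale locus.** -/
theorem exists_ne_zero_forall (A : Type*) [CommRing A] [IsDomain A] [Algebra ℂ A]
    [Algebra.FiniteType ℂ A] :
    ∃ f : A, f ≠ 0 ∧ ∀ E : Set (A →ₐ[ℂ] ℂ), WOpen E → WOpen Eᶜ →
      (∀ x : A →ₐ[ℂ] ℂ, x f ≠ 0 → x ∉ E) ∨ (∀ x : A →ₐ[ℂ] ℂ, x f ≠ 0 → x ∈ E) := by
  classical
  obtain ⟨n, g, hg, hfin⟩ := exists_finite_inj_algHom_of_fg ℂ A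
  algebraize [g.toRingHom]
  have : IsScalarTower ℂ (MvPolynomial (Fin n) ℂ) A := IsScalarTower.of_algebraMap_eq' (by
    ext c
    exact (g.commutes c).symm)
  have : FaithfulSMul (MvPolynomial (Fin n) ℂ) A := (faithfulSMul_iff_algebraMap_injective _ _).2 hg
  have : Module.Finite (MvPolynomial (Fin n) ℂ) A := hfin
  obtain ⟨t, u, v, D, hD, hbez, hden⟩ := Prim.exists_primitive (MvPolynomial (Fin n) ℂ) A
  choose h hh using hden
  have hint : IsIntegral (MvPolynomial (Fin n) ℂ) t := Algebra.IsIntegral.isIntegral t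
  set P := minpoly (MvPolynomial (Fin n) ℂ) t with hPdef
  have hP : ∀ p : Polynomial (MvPolynomial (Fin n) ℂ), Polynomial.aeval t p = 0 → P ∣ p :=
    fun p hp => minpoly.isIntegrallyClosed_dvd hint hp
  have hPm : P.Monic := minpoly.monic hint
  have hprime : Prime P := minpoly.prime_of_isIntegrallyClosed hint
  refine ⟨algebraMap (MvPolynomial (Fin n) ℂ) A D, ?_, ?_⟩
  · rw [Ne, FaithfulSMul.algebraMap_eq_zero_iff]
    exact hD
  intro E hE hE'
  let e : (Fin n → ℂ) × ℂ → ℂ := fun q =>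
    if hq : F P q = 0 ∧ eval q.1 D ≠ 0 then
      (if point t P hP D h hh q hq.1 hq.2 ∈ E then 1 else 0) else 0
  have he : ∀ q (hq : F P q = 0) (hD : eval q.1 D ≠ 0),
      e q = if point t P hP D h hh q hq hD ∈ E then 1 else 0 := by
    intro q hq hD
    simp only [e]
    rw [dif_pos ⟨hq, hD⟩]
  have key := Interp.eq_zero_or_eq_one hPm hprime u v D hD hbez e (by
    intro q hD hq
    rw [he q hq hD]
    split_ifs
    · exact Or.inr rfl
    · exact Or.inl rfl) (by
    intro q0 hD0 hq0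
    have hopen : ∀ᶠ q : (Fin n → ℂ) × ℂ in 𝓝 q0, eval q.1 D ≠ 0 :=
      ((Growth.isOpen_ne_zero D).preimage continuous_fst).mem_nhds hD0
    by_cases hx : point t P hP D h hh q0 hq0 hD0 ∈ E
    · obtain ⟨S, ε, hε, hS⟩ := hE _ hx
      filter_upwards [eventually_close t P hP D h hh q0 hq0 hD0 S ε hε, hopen] with q hq hDq hPq
      rw [he q hPq hDq, he q0 hq0 hD0, if_pos hx, if_pos (hS _ (hq hPq hDq))]
    · obtain ⟨S, ε, hε, hS⟩ := hE' _ hx
      filter_upwards [eventually_close t P hP D h hh q0 hq0 hD0 S ε hε, hopen] with q hq hDq hPq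
      rw [he q hPq hDq, he q0 hq0 hD0, if_neg hx, if_neg (hS _ (hq hPq hDq))])
  rcases key with key | key
  · left
    intro x hx hxE
    obtain ⟨hq, hDq, hxeq⟩ := eq_point t P hP D h hh (minpoly.aeval _ _) x hx
    have h1 := key _ hDq hq
    rw [he _ hq hDq, ← hxeq, if_pos hxE] at h1
    exact one_ne_zero h1
  · right
    intro x hx
    obtain ⟨hq, hDq, hxeq⟩ := eq_point t P hP D h hh (minpoly.aeval _ _) x hx
    have h1 := key _ hDq hq
    rw [he _ hq hDq, ← hxeq] at h1
    by_contra hxE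
    rw [if_neg hxE] at h1
    exact zero_ne_one h1

end Groth.Agent.An.H869.Points
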