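import Mathlib.Topology.Covering.Basic
import Mathlib.Topology.Connected.Clopen
import Mathlib.Topology.LocallyConstant.Basic
import Mathlib.RingTheory.MvPolynomial.Basic
import Mathlib.RingTheory.Ideal.Quotient.Operations
import Mathlib.RingTheory.IntegralClosure.Algebra.Basic
import Mathlib.Algebra.Polynomial.BigOperators
import Mathlib.Algebra.Polynomial.Degree.IsMonicOfDegree
import Mathlib.Algebra.Polynomial.Lifts
import Mathlib.Analysis.Complex.Basic

/-!
# Symmetric functions of a function on a finite covering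

`p : E → T` a finite covering of a connected space `T` with a ring `A` of "functions" (`ev x : A →+* ℂ`,
`x : T`), `b : E → ℂ` continuous and integral over `A`.  If every continuous function on `T` which is
integral over `A` is in `A`, then the characteristic polynomial `∏_{e over x} (X - b e)` has coefficients
in `A`.
-/

set_option autoImplicit false
open Polynomial Topology

noncomputable section

namespace Groth.Agent.An.H869.SymCoef

section coef

/-- Continuity of the coefficients of `∏ (X - t i)`. -/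
theorem continuous_coeff {I Y : Type*} [TopologicalSpace Y] (s : Finset I) (t : Y → I → ℂ)
    (ht : ∀ i ∈ s, Continuous fun y => t y i) (k : ℕ) :
    Continuous fun y => (∏ i ∈ s, (X - C (t y i)) : ℂ[X]).coeff k := by
  classical
  induction s using Finset.induction_on generalizing k with
  | empty => simpa using continuous_const
  | insert i s hi ih =>
    have h1 := ih fun j hj => ht j (Finset.mem_insert_of_mem hj)
    have h2 := ht i (Finset.mem_insert_self _ _)
    simp only [Finset.prod_insert hi]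
    rcases k with _ | k
    · simp only [sub_mul, coeff_sub, mul_coeff_zero, coeff_X_zero, coeff_C_zero, zero_mul, zero_sub]
      exact (h2.mul (h1 0)).neg
    · simp only [sub_mul, coeff_sub, coeff_C_mul, coeff_X_mul]
      exact (h1 k).sub (h2.mul (h1 (k + 1)))

/-- A monic polynomial killing the `k`-th coefficient of `∏_{i < d} (X - t_i)`, the `t_i` being roots of
`P`. -/
theorem exists_killing {A : Type*} [CommRing A] (P : A[X]) (hP : P.Monic) (d k : ℕ) :
    ∃ Q : A[X], Q.Monic ∧ ∀ {K : Type} [Field K] (φ : A →+* K) (t : Fin d → K),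
      (∀ i, (P.map φ).IsRoot (t i)) →
        (Q.map φ).IsRoot ((∏ i, (X - C (t i)) : K[X]).coeff k) := by
  let R := MvPolynomial (Fin d) A
  let J : Ideal R := Ideal.span (Set.range fun i : Fin d => P.eval₂ MvPolynomial.C (MvPolynomial.X i))
  let B := R ⧸ J
  let τ : Fin d → B := fun i => Ideal.Quotient.mk J (MvPolynomial.X i)
  have hτ : ∀ i, P.eval₂ (algebraMap A B) (τ i) = 0 := by
    intro i
    have h1 : algebraMap A B = (Ideal.Quotient.mk J).comp MvPolynomial.C := rfl
    rw [h1, ← Polynomial.hom_eval₂]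
    exact Ideal.Quotient.eq_zero_iff_mem.2 (Ideal.subset_span ⟨i, rfl⟩)
  have hint : ∀ i, IsIntegral A (τ i) := fun i => ⟨P, hP, hτ i⟩
  let c : B := (∏ i, (X - C (τ i)) : B[X]).coeff k
  have hc : IsIntegral A c := by
    have h1 : (∏ i, (X - C (τ i)) : B[X]) ∈
        Polynomial.lifts (integralClosure A B).val.toRingHom := by
      refine prod_mem fun i _ => ?_
      refine (Polynomial.mem_lifts _).2 ⟨X - C ⟨τ i, hint i⟩, ?_⟩
      rw [Polynomial.map_sub, Polynomial.map_X, Polynomial.map_C]
      rfl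
    obtain ⟨q, hq⟩ := (Polynomial.mem_lifts _).1 h1
    have h2 : c = ((q.coeff k : integralClosure A B) : B) := by
      change (∏ i, (X - C (τ i)) : B[X]).coeff k = _
      rw [← hq, Polynomial.coeff_map]
      rfl
    rw [h2]
    exact (q.coeff k).2
  obtain ⟨Q, hQ, hQc⟩ := hc
  refine ⟨Q, hQ, fun {K} _ φ t ht => ?_⟩
  have hJ : J ≤ RingHom.ker (MvPolynomial.eval₂Hom φ t) := by
    refine Ideal.span_le.2 ?_
    intro g hg
    obtain ⟨i, hi⟩ := hg
    rw [← hi]
    change MvPolynomial.eval₂Hom φ t (P.eval₂ MvPolynomial.C (MvPolynomial.X i)) = 0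
    rw [Polynomial.hom_eval₂, MvPolynomial.eval₂Hom_X']
    have h2 : (MvPolynomial.eval₂Hom φ t).comp MvPolynomial.C = φ := by
      ext a
      simp
    rw [h2, ← Polynomial.eval_map]
    exact ht i
  have hJ' : ∀ a ∈ J, MvPolynomial.eval₂Hom φ t a = 0 := fun a ha => hJ ha
  let ψ : B →+* K := Ideal.Quotient.lift J (MvPolynomial.eval₂Hom φ t) hJ'
  have hψτ : ∀ i, ψ (τ i) = t i := by
    intro i
    change Ideal.Quotient.lift J _ _ (Ideal.Quotient.mk J (MvPolynomial.X i)) = _
    rw [Ideal.Quotient.lift_mk, MvPolynomial.eval₂Hom_X']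
  have hψA : ψ.comp (algebraMap A B) = φ := by
    ext a
    have h3 : algebraMap A B a = Ideal.Quotient.mk J (MvPolynomial.C a) := rfl
    rw [RingHom.comp_apply, h3]
    change Ideal.Quotient.lift J _ _ (Ideal.Quotient.mk J (MvPolynomial.C a)) = _
    rw [Ideal.Quotient.lift_mk, MvPolynomial.eval₂Hom_C]
  have hψc : ψ c = (∏ i, (X - C (t i)) : K[X]).coeff k := by
    change ψ ((∏ i, (X - C (τ i)) : B[X]).coeff k) = _
    rw [← Polynomial.coeff_map, Polynomial.map_prod]
    congr 2
    funext i
    rw [Polynomial.map_sub, Polynomial.map_X, Polynomial.map_C, hψτ]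
  rw [← hψc, Polynomial.IsRoot.def, Polynomial.eval_map, ← hψA, ← Polynomial.hom_eval₂]
  change ψ (Q.eval₂ (algebraMap A B) c) = 0
  rw [hQc, map_zero]

end coef

section cov

variable {T E : Type*} [TopologicalSpace T] [TopologicalSpace E] {p : E → T}

/-- The characteristic polynomial of `b` at `x`. -/
def chi (hfin : ∀ x, (p ⁻¹' {x}).Finite) (b : E → ℂ) (x : T) : ℂ[X] :=
  ∏ e ∈ (hfin x).toFinset, (X - C (b e))

/-- Local description of the characteristic polynomial. -/
theorem chi_local (hp : IsCoveringMap p) (hfin : ∀ x, (p ⁻¹' {x}).Finite) (b : E → ℂ)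
    (x₀ : T) :
    ∃ (d : ℕ) (U : Set T), IsOpen U ∧ x₀ ∈ U ∧ ∃ s : U → Fin d → E,
      (∀ i, Continuous fun x => s x i) ∧ (∀ x i, p (s x i) = x) ∧
      ∀ x : U, (hfin x).toFinset.card = d ∧ chi hfin b x = ∏ i, (X - C (b (s x i))) := by
  classical
  obtain ⟨inst, U, hxU, hU, hfU, H, hH⟩ := hp x₀
  have : Finite (p ⁻¹' {x₀}) := hfin x₀
  let d := Nat.card (p ⁻¹' {x₀})
  let ε : (p ⁻¹' {x₀}) ≃ Fin d := Finite.equivFin _
  have hH' : ∀ u : U × (p ⁻¹' {x₀}), p (H.symm u).1 = u.1.1 := fun u => by
    rw [← hH, H.apply_symm_apply]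
  let s : U → Fin d → E := fun x i => (H.symm (x, ε.symm i)).1
  have hs : ∀ x i, p (s x i) = x := fun x i => hH' _
  have hinj : ∀ x, Function.Injective (s x) := by
    intro x i j hij
    have h1 : H.symm (x, ε.symm i) = H.symm (x, ε.symm j) := Subtype.ext hij
    have h2 := congrArg Prod.snd (H.symm.injective h1)
    exact ε.symm.injective h2
  have himg : ∀ x : U, (hfin x).toFinset = Finset.univ.image (s x) := by
    intro x
    ext e
    rw [Set.Finite.mem_toFinset, Finset.mem_image]
    constructor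
    · intro he
      have he' : e ∈ p ⁻¹' U := by
        change p e ∈ U
        rw [show p e = x from he]
        exact x.2
      refine ⟨ε (H ⟨e, he'⟩).2, Finset.mem_univ _, ?_⟩
      have h1 : (x, (H ⟨e, he'⟩).2) = H ⟨e, he'⟩ := by
        refine Prod.ext (Subtype.ext ?_) rfl
        rw [hH]
        exact (he : p e = x).symm
      change (H.symm (x, ε.symm (ε (H ⟨e, he'⟩).2))).1 = e
      rw [ε.symm_apply_apply, h1, H.symm_apply_apply]
    · rintro ⟨i, -, rfl⟩
      exact hs x i
  refine ⟨d, U, hU, hxU, s, fun i => ?_, hs, fun x => ⟨?_, ?_⟩⟩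
  · exact continuous_subtype_val.comp (H.symm.continuous.comp (Continuous.prodMk continuous_id
      continuous_const))
  · rw [himg, Finset.card_image_of_injective _ (hinj x), Finset.card_univ, Fintype.card_fin]
  · rw [chi, himg, Finset.prod_image fun i _ j _ h => hinj x h]

theorem continuous_chi_coeff (hp : IsCoveringMap p) (hfin : ∀ x, (p ⁻¹' {x}).Finite) (b : E → ℂ)
    (hb : Continuous b) (k : ℕ) : Continuous fun x => (chi hfin b x).coeff k := by
  rw [continuous_iff_continuousAt]
  intro x₀
  obtain ⟨d, U, hU, hx₀, s, hs, -, hchi⟩ := chi_local hp hfin b x₀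
  have h1 : Continuous (U.domRestrict fun x => (chi hfin b x).coeff k) := by
    have : (U.domRestrict fun x => (chi hfin b x).coeff k) =
        fun x : U => (∏ i, (X - C (b (s x i))) : ℂ[X]).coeff k := by
      funext x
      rw [Set.domRestrict_apply, (hchi x).2]
    rw [this]
    exact continuous_coeff Finset.univ (fun x i => b (s x i)) (fun i _ => hb.comp (hs i)) k
  exact (continuousOn_iff_continuous_domRestrict.2 h1).continuousAt (hU.mem_nhds hx₀)

theorem card_eq [PreconnectedSpace T] (hp : IsCoveringMap p) (hfin : ∀ x, (p ⁻¹' {x}).Finite)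
    (x y : T) : (hfin x).toFinset.card = (hfin y).toFinset.card := by
  have h1 : IsLocallyConstant fun x => (hfin x).toFinset.card := by
    rw [IsLocallyConstant.iff_exists_open]
    intro x₀
    obtain ⟨d, U, hU, hx₀, s, hs, -, hchi⟩ := chi_local hp hfin (fun _ => 0) x₀
    refine ⟨U, hU, hx₀, fun y hy => ?_⟩
    rw [(hchi ⟨x₀, hx₀⟩).1, (hchi ⟨y, hy⟩).1]
  exact h1.apply_eq_of_preconnectedSpace x y

/-- **The characteristic polynomial has coefficients in `A`.** -/
theorem exists_charpoly {A : Type*} [CommRing A] [PreconnectedSpace T] (ev : T → A →+* ℂ)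
    (hINT : ∀ h : T → ℂ, Continuous h → ∀ P : A[X], P.Monic →
      (∀ x, (P.map (ev x)).IsRoot (h x)) → ∃ a : A, ∀ x, h x = ev x a)
    (hp : IsCoveringMap p) (hfin : ∀ x, (p ⁻¹' {x}).Finite) (b : E → ℂ)
    (hb : Continuous b) (P : A[X]) (hP : P.Monic)
    (hPb : ∀ e, (P.map (ev (p e))).IsRoot (b e)) :
    ∃ F : A[X], F.Monic ∧ ∀ x, F.map (ev x) = ∏ e ∈ (hfin x).toFinset, (X - C (b e)) := by
  classical
  rcases isEmpty_or_nonempty T with hT | ⟨⟨x₁⟩⟩
  · exact ⟨1, monic_one, fun x => (hT.false x).elim⟩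
  set d := (hfin x₁).toFinset.card with hd
  have hcard : ∀ x, (hfin x).toFinset.card = d := fun x => card_eq hp hfin x x₁
  -- coefficients
  have hcoef : ∀ k, ∃ a : A, ∀ x, (chi hfin b x).coeff k = ev x a := by
    intro k
    obtain ⟨Q, hQ, hQr⟩ := exists_killing P hP d k
    refine hINT _ (continuous_chi_coeff hp hfin b hb k) Q hQ fun x => ?_
    let ε : Fin d ≃ (hfin x).toFinset := ((hfin x).toFinset.equivFinOfCardEq (hcard x)).symm
    have h1 : chi hfin b x = ∏ i, (X - C (b (ε i).1)) := by
      rw [chi, ← Finset.prod_coe_sort]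
      exact (Equiv.prod_comp ε fun e => (X - C (b e.1))).symm
    rw [h1]
    refine hQr (ev x) (fun i => b (ε i).1) fun i => ?_
    have h2 : p (ε i).1 = x := (hfin x).mem_toFinset.1 (ε i).2
    have h3 := hPb (ε i).1
    rwa [h2] at h3
  choose a ha using hcoef
  refine ⟨X ^ d + ∑ k ∈ Finset.range d, C (a k) * X ^ k, ?_, fun x => ?_⟩
  · refine monic_X_pow_add ?_
    refine (degree_sum_le _ _).trans_lt ((Finset.sup_lt_iff (WithBot.bot_lt_coe d)).2 ?_)
    intro k hk
    exact (degree_C_mul_X_pow_le k _).trans_lt (Nat.cast_lt.2 (Finset.mem_range.1 hk))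
  · change _ = chi hfin b x
    have hdeg : (chi hfin b x).natDegree = d := by
      rw [chi, natDegree_prod_of_monic _ _ fun e _ => monic_X_sub_C _]
      simp [hcard x]
    have hmon : (chi hfin b x).Monic := monic_prod_of_monic _ _ fun e _ => monic_X_sub_C _
    have h1 := hmon.as_sum
    rw [hdeg] at h1
    rw [h1, Polynomial.map_add, Polynomial.map_pow, Polynomial.map_X, Polynomial.map_sum]
    congr 1
    refine Finset.sum_congr rfl fun k _ => ?_
    rw [Polynomial.map_mul, Polynomial.map_C, Polynomial.map_pow, Polynomial.map_X, ha]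

end cov

end Groth.Agent.An.H869.SymCoef
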