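import Groth.Agent.An.H866.AlgCov
import Groth.Agent.An.H14.AffPts
import Groth.Agent.Flat2E.FinEtaleSpread

/-!
# The finite étale covering attached to a monic separable polynomial, on complex points

For `W` affine, locally of finite type over `ℂ` and `F : Γ(W, ⊤)[X]` monic with `F`, `F'` comaximal, the
space `{(x, t) | F_x(t) = 0}` over `W(ℂ)` is the space of complex points of `Spec Γ(W, ⊤)[X]/(F)`.
-/

set_option autoImplicit false
open CategoryTheory AlgebraicGeometry Topology TopologicalSpace Opposite Polynomial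
open Groth.Agent.An.H863.PtsBasic Groth.Agent.An.H863.PtsCont
open Groth.Agent.An.H14.AffPts Groth.Agent.An.H866.AlgCov

noncomputable section

namespace Groth.Agent.An.H869.Std

section spec

variable (W : Scheme.{0}) [IsAffine W] (B : Type) [CommRing B] [Algebra Γ(W, ⊤) B]

/-- `Spec B → W`. -/
def str : Spec (CommRingCat.of B) ⟶ W :=
  Spec.map (CommRingCat.ofHom (algebraMap Γ(W, ⊤) B)) ≫ W.isoSpec.inv

theorem isFinite_str [Module.Finite Γ(W, ⊤) B] : IsFinite (str W B) := by
  have h1 : IsFinite (Spec.map (CommRingCat.ofHom (algebraMap Γ(W, ⊤) B))) := by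
    rw [IsFinite.SpecMap_iff]
    exact RingHom.finite_algebraMap.2 inferInstance
  exact MorphismProperty.comp_mem _ _ _ h1 (inferInstanceAs (IsFinite W.isoSpec.inv))

theorem etale_str [Algebra.Etale Γ(W, ⊤) B] : Etale (str W B) := by
  have h1 : Etale (Spec.map (CommRingCat.ofHom (algebraMap Γ(W, ⊤) B))) := by
    rw [HasRingHomProperty.Spec_iff (P := @Etale)]
    exact RingHom.etale_algebraMap.2 inferInstance
  unfold str
  infer_instance

/-- The functions on `Spec B`. -/
def gB : B →+* Γ(Spec (CommRingCat.of B), ⊤) := (Scheme.ΓSpecIso (CommRingCat.of B)).inv.hom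

theorem gB_bijective : Function.Bijective (gB B) :=
  ConcreteCategory.bijective_of_isIso (Scheme.ΓSpecIso (CommRingCat.of B)).inv

theorem isoSpec_inv_appTop : W.isoSpec.inv.appTop = (Scheme.ΓSpecIso Γ(W, ⊤)).inv := by
  have h1 : W.isoSpec.inv ≫ W.toSpecΓ = 𝟙 _ := W.isoSpec_inv_toSpecΓ
  have h2 := congrArg Scheme.Hom.appTop h1
  rw [Scheme.Hom.comp_appTop, Scheme.toSpecΓ_appTop] at h2
  exact ((Iso.eq_inv_comp _).2 h2).trans (Category.comp_id _)

theorem appTop_str (f : Γ(W, ⊤)) :
    (str W B).appTop f = gB B (algebraMap Γ(W, ⊤) B f) := by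
  rw [str, Scheme.Hom.comp_appTop, isoSpec_inv_appTop]
  change (Spec.map (CommRingCat.ofHom (algebraMap Γ(W, ⊤) B))).appTop
    ((Scheme.ΓSpecIso Γ(W, ⊤)).inv f) = _
  have h2 := Scheme.ΓSpecIso_inv_naturality (CommRingCat.ofHom (algebraMap Γ(W, ⊤) B))
  have h3 := congrArg (fun g => g f) (congrArg (fun g => g.hom) h2)
  exact h3.symm

end spec

variable {W : Scheme.{0}} [W.Over An.SC]

/-- The polynomial at a point. -/
def polyAt (x : An.Pts W) (F : Γ(W, ⊤)[X]) : ℂ[X] := F.map (evTopHom x)

/-- The space of roots. -/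
abbrev RootSp (F : Γ(W, ⊤)[X]) : Type := {z : An.Pts W × ℂ // (polyAt z.1 F).IsRoot z.2}

/-- Its projection. -/
def RootSp.base (F : Γ(W, ⊤)[X]) : RootSp F → An.Pts W := fun z => z.1.1

theorem continuous_eval_polyAt (F : Γ(W, ⊤)[X]) :
    Continuous (fun z : An.Pts W × ℂ => (polyAt z.1 F).eval z.2) := by
  induction F using Polynomial.induction_on' with
  | add p q hp hq =>
    simp only [polyAt, Polynomial.map_add, Polynomial.eval_add] at *
    exact hp.add hq
  | monomial n a =>
    simp only [polyAt, Polynomial.map_monomial, Polynomial.eval_monomial]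
    exact ((continuous_evTop a).comp _root_.continuous_fst).mul
      (_root_.continuous_snd.pow n)

variable [IsAffine W] [LocallyOfFiniteType (W ↘ An.SC)]

/-- **The root covering is algebraic.** -/
def rootData (F : Γ(W, ⊤)[X]) (hF : F.Monic) (hs : IsCoprime F (derivative F)) :
    AlgData (RootSp.base F) := by
  have hfin : Module.Finite Γ(W, ⊤) (AdjoinRoot F) := hF.finite_adjoinRoot
  have het : Algebra.Etale Γ(W, ⊤) (AdjoinRoot F) :=
    Flat2E.FinEtaleSpread.etale_adjoinRoot F hF hs
  let Y : Scheme.{0} := Spec (CommRingCat.of (AdjoinRoot F))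
  let π : Y ⟶ W := str W (AdjoinRoot F)
  letI : Y.Over An.SC := ⟨π ≫ (W ↘ An.SC)⟩
  have hO : π.IsOver An.SC := ⟨rfl⟩
  have h1 : IsFinite π := isFinite_str W _
  have h2 : Etale π := etale_str W _
  have h3 : IsAffine Y := inferInstanceAs (IsAffine (Spec (CommRingCat.of (AdjoinRoot F))))
  have h4 : LocallyOfFiniteType (Y ↘ An.SC) := by
    change LocallyOfFiniteType (π ≫ (W ↘ An.SC))
    infer_instance
  -- evaluation
  have hev : ∀ (a : An.Pts Y) (f : Γ(W, ⊤)),
      a.evTop (gB (AdjoinRoot F) (algebraMap Γ(W, ⊤) (AdjoinRoot F) f)) =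
        (An.Pts.map π a).evTop f := by
    intro a f
    rw [evTop_map]
    change _ = a.evTop ((str W (AdjoinRoot F)).appTop f)
    rw [appTop_str]
  have hevp : ∀ (a : An.Pts Y) (P : Γ(W, ⊤)[X]),
      a.evTop (gB (AdjoinRoot F) (AdjoinRoot.mk F P)) =
        (polyAt (An.Pts.map π a) P).eval (a.evTop (gB (AdjoinRoot F) (AdjoinRoot.root F))) := by
    intro a P
    have hh : ((evTopHom a).comp (gB (AdjoinRoot F))).comp (AdjoinRoot.mk F) =
        Polynomial.eval₂RingHom (evTopHom (An.Pts.map π a))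
          (a.evTop (gB (AdjoinRoot F) (AdjoinRoot.root F))) := by
      refine Polynomial.ringHom_ext (fun f => ?_) ?_
      · rw [Polynomial.coe_eval₂RingHom, Polynomial.eval₂_C]
        exact hev a f
      · rw [Polynomial.coe_eval₂RingHom, Polynomial.eval₂_X]
        rfl
    have := congrArg (fun g => g P) hh
    rw [Polynomial.coe_eval₂RingHom] at this
    change a.evTop (gB (AdjoinRoot F) (AdjoinRoot.mk F P)) = _ at this
    rw [this, polyAt, Polynomial.eval_map]
  have hroot : ∀ a : An.Pts Y, (polyAt (An.Pts.map π a) F).IsRoot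
      (a.evTop (gB (AdjoinRoot F) (AdjoinRoot.root F))) := by
    intro a
    rw [Polynomial.IsRoot.def, ← hevp, AdjoinRoot.mk_self, map_zero]
    exact map_zero (evTopHom a)
  -- the points
  have hex : ∀ z : RootSp F, ∃ a : An.Pts Y, ∀ P : Γ(W, ⊤)[X],
      a.evTop (gB (AdjoinRoot F) (AdjoinRoot.mk F P)) = (polyAt z.1.1 P).eval z.1.2 := by
    intro z
    let φ : AdjoinRoot F →+* ℂ := AdjoinRoot.lift (evTopHom z.1.1) z.1.2 (by
      have := z.2
      rwa [Polynomial.IsRoot.def, polyAt, Polynomial.eval_map] at this)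
    let gE : AdjoinRoot F ≃+* Γ(Y, ⊤) := RingEquiv.ofBijective (gB (AdjoinRoot F)) (gB_bijective _)
    obtain ⟨a, ha⟩ := exists_of_ringHom (X := Y) (φ.comp gE.symm.toRingHom) (by
      intro c
      have h5 : An.strHom Y c = gE (algebraMap Γ(W, ⊤) (AdjoinRoot F) (An.strHom W c)) := by
        change _ = gB (AdjoinRoot F) (algebraMap Γ(W, ⊤) (AdjoinRoot F) (An.strHom W c))
        rw [← appTop_str]
        change (π ≫ (W ↘ An.SC)).appTop ((Scheme.ΓSpecIso (CommRingCat.of ℂ)).inv c) = _
        rw [Scheme.Hom.comp_appTop]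
        rfl
      rw [h5]
      change φ (gE.symm (gE _)) = c
      rw [RingEquiv.symm_apply_apply]
      change AdjoinRoot.lift _ _ _ (AdjoinRoot.of F (An.strHom W c)) = c
      rw [AdjoinRoot.lift_of]
      exact evTopHom_strHom _ _)
    refine ⟨a, fun P => ?_⟩
    have h6 := congrArg (fun g => g (gE (AdjoinRoot.mk F P))) ha
    change a.evTop (gE (AdjoinRoot.mk F P)) = φ (gE.symm (gE (AdjoinRoot.mk F P))) at h6
    rw [RingEquiv.symm_apply_apply] at h6
    change a.evTop (gE (AdjoinRoot.mk F P)) = _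
    rw [h6, polyAt, Polynomial.eval_map]
    exact AdjoinRoot.lift_mk _ _
  choose inv hinv using hex
  have hinv1 : ∀ z, An.Pts.map π (inv z) = z.1.1 := by
    intro z
    refine ext_of_evTop fun f => ?_
    rw [← hev]
    have := hinv z (C f)
    rw [polyAt, Polynomial.map_C, Polynomial.eval_C] at this
    exact this
  have hinv2 : ∀ z, (inv z).evTop (gB (AdjoinRoot F) (AdjoinRoot.root F)) = z.1.2 := by
    intro z
    have := hinv z X
    rw [polyAt, Polynomial.map_X, Polynomial.eval_X] at this
    exact this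
  have hsurj : ∀ g : Γ(Y, ⊤), ∃ P : Γ(W, ⊤)[X], gB (AdjoinRoot F) (AdjoinRoot.mk F P) = g := by
    intro g
    obtain ⟨b, rfl⟩ := (gB_bijective (AdjoinRoot F)).2 g
    obtain ⟨P, rfl⟩ := AdjoinRoot.mk_surjective b
    exact ⟨P, rfl⟩
  let e : An.Pts Y ≃ₜ RootSp F :=
    { toFun := fun a => ⟨(An.Pts.map π a, a.evTop (gB (AdjoinRoot F) (AdjoinRoot.root F))), hroot a⟩
      invFun := inv
      left_inv := fun a => by
        refine ext_of_evTop fun g => ?_
        obtain ⟨P, rfl⟩ := hsurj g
        rw [hinv, hevp]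
      right_inv := fun z => Subtype.ext (Prod.ext (hinv1 z) (hinv2 z))
      continuous_toFun := by
        refine Continuous.subtype_mk (Continuous.prodMk (An.Pts.continuous_map π) ?_) _
        exact continuous_evTop _
      continuous_invFun := by
        refine continuous_of_evTop _ fun g => ?_
        obtain ⟨P, rfl⟩ := hsurj g
        simp only [hinv]
        exact (continuous_eval_polyAt P).comp continuous_subtype_val }
  exact { Y := Y, π := π, e := e, comm := fun a => rfl }

end Groth.Agent.An.H869.Std
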