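import Groth.Agent.An.H869.Std
import Groth.Agent.An.H866.CovPull
import Mathlib.RingTheory.Polynomial.Resultant.Basic

/-!
# Coverings cut out by a monic polynomial are algebraic

* `isAlg_of_roots`: `W` affine, `F` monic with `F`, `F'` comaximal, `p : E → W(ℂ)` a local homeomorphism and
  `θ : E → ℂ` continuous and bijective from each fibre onto the roots of `F_x`;
* `isAlg_basicOpen`: the same over `D(d)` when `u F + v F' = d`;
* `isAlg_nhds`: the same near a point `x₀` with `F_{x₀}` separable.
-/

set_option autoImplicit false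
open CategoryTheory AlgebraicGeometry Topology TopologicalSpace Opposite Polynomial
open Groth.Agent.An.H863.PtsBasic Groth.Agent.An.H863.PtsCont
open Groth.Agent.An.H14.AffPts Groth.Agent.An.H866 Groth.Agent.An.H866.AlgCov
open Groth.Agent.An.H869.Std

noncomputable section

namespace Groth.Agent.An.H869.StdAlg

section top

variable {T E R : Type*} [TopologicalSpace T] [TopologicalSpace E] [TopologicalSpace R]

/-- A continuous bijection between spaces étale over `T` is a homeomorphism. -/
def homeoOfLH {p : E → T} {q : R → T} (hp : IsLocalHomeomorph p) (hq : IsLocalHomeomorph q)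
    (k : E → R) (hk : Continuous k) (hb : Function.Bijective k) (hqk : ∀ e, q (k e) = p e) :
    E ≃ₜ R :=
  (IsLocalHomeomorph.of_comp (f := k) (g := q) (by
    have : q ∘ k = p := funext hqk
    rwa [this]) hq hk).toHomeomorphOfBijective hb

theorem homeoOfLH_apply {p : E → T} {q : R → T} (hp : IsLocalHomeomorph p)
    (hq : IsLocalHomeomorph q) (k : E → R) (hk : Continuous k) (hb : Function.Bijective k)
    (hqk : ∀ e, q (k e) = p e) (e : E) : homeoOfLH hp hq k hk hb hqk e = k e := rfl

end top

section aff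

variable {W : Scheme.{0}} [W.Over An.SC] [IsAffine W] [LocallyOfFiniteType (W ↘ An.SC)]

theorem isLocalHomeomorph_base (F : Γ(W, ⊤)[X]) (hF : F.Monic) (hs : IsCoprime F (derivative F)) :
    IsLocalHomeomorph (RootSp.base F) := by
  let A := rootData F hF hs
  have h1 : RootSp.base F = An.Pts.map A.π ∘ A.e.symm := by
    funext z
    rw [Function.comp_apply, ← A.comm, A.e.apply_symm_apply]
  rw [h1]
  exact (EtLH.isLocalHomeomorph_map A.π).comp A.e.symm.isLocalHomeomorph

/-- Coverings embedded in the roots of a monic separable polynomial are algebraic. -/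
theorem isAlg_of_roots {E : Type} [TopologicalSpace E] (p : E → An.Pts W)
    (hp : IsLocalHomeomorph p) (F : Γ(W, ⊤)[X]) (hF : F.Monic) (hs : IsCoprime F (derivative F))
    (θ : E → ℂ) (hθ : Continuous θ)
    (hbij : ∀ x, Set.BijOn θ (p ⁻¹' {x}) {t | (polyAt x F).IsRoot t}) : IsAlg p := by
  let k : E → RootSp F := fun e => ⟨(p e, θ e), (hbij (p e)).mapsTo rfl⟩
  have hk : Continuous k := Continuous.subtype_mk (hp.continuous.prodMk hθ) _
  have hb : Function.Bijective k := by
    constructor
    · intro e e' h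
      have h1 : p e = p e' := congrArg (fun z : RootSp F => z.1.1) h
      have h2 : θ e = θ e' := congrArg (fun z : RootSp F => z.1.2) h
      exact (hbij (p e)).injOn rfl h1.symm h2
    · rintro ⟨⟨x, t⟩, ht⟩
      obtain ⟨e, he, het⟩ := (hbij x).surjOn ht
      exact ⟨e, Subtype.ext (Prod.ext he het)⟩
  let h := homeoOfLH hp (isLocalHomeomorph_base F hF hs) k hk hb fun e => rfl
  exact IsAlg.congr ⟨rootData F hF hs⟩ h.symm fun a => by
    have h1 : RootSp.base F (h (h.symm a)) = p (h.symm a) := rfl
    rw [← h1, h.apply_symm_apply]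

end aff

section basic

variable {Z : Scheme.{0}} [Z.Over An.SC]

theorem polyAt_map {W : Scheme.{0}} [W.Over An.SC] (g : W ⟶ Z) [g.IsOver An.SC] (x : An.Pts W)
    (F : Γ(Z, ⊤)[X]) : polyAt x (F.map g.appTop.hom) = polyAt (An.Pts.map g x) F := by
  rw [polyAt, polyAt, Polynomial.map_map]
  congr 1

omit [Z.Over An.SC] in
theorem isUnit_ι_appTop (d : Γ(Z, ⊤)) : IsUnit ((Z.basicOpen d).ι.appTop d) := by
  have h1 := RingedSpace.isUnit_res_basicOpen Z.toLocallyRingedSpace.toRingedSpace d
  have hle : (Z.basicOpen d).ι ''ᵁ ⊤ ≤ Z.basicOpen d := by simp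
  have h2 : (Z.basicOpen d).ι.appTop d =
      Z.presheaf.map (homOfLE hle).op (Z.presheaf.map (homOfLE (Z.basicOpen_le d)).op d) := by
    rw [Scheme.Opens.ι_appTop, ← ConcreteCategory.comp_apply, ← Z.presheaf.map_comp]
    rfl
  rw [h2]
  exact IsUnit.map (Z.presheaf.map (homOfLE hle).op).hom h1

variable [IsAffine Z] [LocallyOfFiniteType (Z ↘ An.SC)]

/-- Coverings which over `D(d)` are embedded in the roots of `F`, `d ∈ (F, F')`, are algebraic over
`D(d)`. -/
theorem isAlg_basicOpen {E : Type} [TopologicalSpace E] (p : E → An.Pts Z)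
    (hp : IsCoveringMap p) (d : Γ(Z, ⊤)) (F u v : Γ(Z, ⊤)[X]) (hF : F.Monic)
    (huv : u * F + v * derivative F = C d) (θ : E → ℂ)
    (hθ : ContinuousOn θ {e | (p e).evTop d ≠ 0})
    (hbij : ∀ x, x.evTop d ≠ 0 → Set.BijOn θ (p ⁻¹' {x}) {t | (polyAt x F).IsRoot t}) :
    IsAlg (PB.fst (Z.basicOpen d).ι p) := by
  have hW : IsAffine (Z.basicOpen d).toScheme := (isAffineOpen_top Z).basicOpen d
  have hft : LocallyOfFiniteType ((Z.basicOpen d).toScheme ↘ An.SC) := by
    have h1 : (Z.basicOpen d).ι ≫ (Z ↘ An.SC) = ((Z.basicOpen d).toScheme ↘ An.SC) :=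
      comp_over (Z.basicOpen d).ι An.SC
    rw [← h1]
    infer_instance
  let g := (Z.basicOpen d).ι
  obtain ⟨c, hc⟩ := (isUnit_ι_appTop d).exists_left_inv
  have hs : IsCoprime (F.map g.appTop.hom) (derivative (F.map g.appTop.hom)) := by
    refine ⟨C c * u.map g.appTop.hom, C c * v.map g.appTop.hom, ?_⟩
    have h1 := congrArg (Polynomial.map g.appTop.hom) huv
    rw [Polynomial.map_add, Polynomial.map_mul, Polynomial.map_mul, Polynomial.map_C] at h1
    rw [Polynomial.derivative_map, mul_assoc, mul_assoc, ← mul_add, h1, ← C_mul]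
    change C (c * g.appTop d) = 1
    rw [hc, C_1]
  have hne : ∀ x : An.Pts (Z.basicOpen d).toScheme, (An.Pts.map g x).evTop d ≠ 0 := by
    intro x
    rw [evTop_map]
    exact ((isUnit_ι_appTop d).map (evTopHom x)).ne_zero
  refine isAlg_of_roots _ (CovPull.isCoveringMap_pullback (An.Pts.continuous_map g)
    hp).isLocalHomeomorph (F.map g.appTop.hom) (hF.map _) hs (fun z => θ z.1.2) ?_ fun x => ?_
  · refine hθ.comp_continuous (_root_.continuous_snd.comp continuous_subtype_val) fun z => ?_
    change (p z.1.2).evTop d ≠ 0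
    rw [← z.2]
    exact hne _
  · rw [polyAt_map]
    have hb := hbij (An.Pts.map g x) (hne x)
    refine ⟨fun z hz => ?_, fun z hz z' hz' h => ?_, fun t ht => ?_⟩
    · refine hb.mapsTo ?_
      change p z.1.2 = An.Pts.map g x
      rw [← z.2]
      exact congrArg _ hz
    · have e1 : p z.1.2 = An.Pts.map g x := by
        rw [← z.2]
        exact congrArg _ hz
      have e2 : p z'.1.2 = An.Pts.map g x := by
        rw [← z'.2]
        exact congrArg _ hz'
      refine Subtype.ext (Prod.ext ?_ (hb.injOn e1 e2 h))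
      exact (hz : z.1.1 = x).trans (hz' : z'.1.1 = x).symm
    · obtain ⟨e, he, het⟩ := hb.surjOn ht
      exact ⟨⟨(x, e), (he : p e = _).symm⟩, rfl, het⟩

/-- The discriminant-like element of `(F, F')`. -/
theorem exists_disc {R K : Type*} [CommRing R] [Field K] (F : R[X]) (hF : F.Monic)
    (φ : R →+* K) (hφ : (F.map φ).Separable) :
    ∃ (d : R) (u v : R[X]), u * F + v * derivative F = C d ∧ φ d ≠ 0 := by
  by_cases h0 : F.natDegree = 0
  · obtain rfl := eq_one_of_monic_natDegree_zero hF h0
    exact ⟨1, 1, 0, by simp, by simp⟩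
  · have hdeg : (derivative F).natDegree ≤ F.natDegree := natDegree_derivative_le F |>.trans
      (Nat.sub_le _ _)
    obtain ⟨a, b, -, -, hab⟩ := exists_mul_add_mul_eq_C_resultant F (derivative F)
      (le_refl F.natDegree) hdeg (Or.inl h0)
    refine ⟨F.resultant (derivative F) F.natDegree F.natDegree, a, b, ?_, ?_⟩
    · rw [← hab]
      ring
    · rw [← resultant_map_map]
      have h1 : (F.map φ).natDegree = F.natDegree := hF.natDegree_map φ
      have h2 : (derivative (F.map φ)).natDegree ≤ F.natDegree := by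
        rw [← h1]
        exact natDegree_derivative_le _ |>.trans (Nat.sub_le _ _)
      rw [← derivative_map]
      have h3 := resultant_ne_zero (F.map φ) (derivative (F.map φ)) hφ
      obtain ⟨k, hk⟩ := Nat.exists_eq_add_of_le h2
      have h4 := resultant_add_right_deg (F.map φ) (derivative (F.map φ)) (F.map φ).natDegree
        (derivative (F.map φ)).natDegree k le_rfl
      rw [← hk, h1] at h4
      rw [h4]
      refine mul_ne_zero (pow_ne_zero _ ?_) ?_
      · rw [← h1, coeff_natDegree, (hF.map φ).leadingCoeff]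
        exact one_ne_zero
      · rw [h1] at h3
        exact h3

/-- **Coverings which near `x₀` are embedded in the roots of `F`, `F_{x₀}` separable, are algebraic near
`x₀`.** -/
theorem isAlg_nhds {E : Type} [TopologicalSpace E] (p : E → An.Pts Z)
    (hp : IsCoveringMap p) (F : Γ(Z, ⊤)[X]) (hF : F.Monic) (θ : E → ℂ)
    (hθ : ContinuousOn θ {e | (polyAt (p e) F).Separable})
    (hbij : ∀ x, (polyAt x F).Separable → Set.BijOn θ (p ⁻¹' {x}) {t | (polyAt x F).IsRoot t})
    (x₀ : An.Pts Z) (h₀ : (polyAt x₀ F).Separable) :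
    ∃ V : Z.Opens, x₀.pt ∈ V ∧ IsAlg (PB.fst V.ι p) := by
  obtain ⟨d, u, v, huv, hd⟩ := exists_disc F hF (evTopHom x₀) h₀
  have hsep : ∀ x : An.Pts Z, x.evTop d ≠ 0 → (polyAt x F).Separable := by
    intro x hx
    have h1 := congrArg (Polynomial.map (evTopHom x)) huv
    rw [Polynomial.map_add, Polynomial.map_mul, Polynomial.map_mul, Polynomial.map_C,
      ← derivative_map] at h1
    refine ⟨C (x.evTop d)⁻¹ * u.map (evTopHom x), C (x.evTop d)⁻¹ * v.map (evTopHom x), ?_⟩
    rw [mul_assoc, mul_assoc, ← mul_add]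
    change C (x.evTop d)⁻¹ * (u.map (evTopHom x) * F.map (evTopHom x) +
      v.map (evTopHom x) * derivative (F.map (evTopHom x))) = 1
    rw [h1, ← C_mul]
    change C ((x.evTop d)⁻¹ * x.evTop d) = 1
    rw [inv_mul_cancel₀ hx, C_1]
  refine ⟨Z.basicOpen d, ?_, ?_⟩
  · rw [← ev_ne_zero_iff x₀ ⊤ (Opens.mem_top _)]
    exact hd
  · exact isAlg_basicOpen p hp d F u v hF huv θ (hθ.mono fun e he => hsep _ he)
      fun x hx => hbij x (hsep x hx)

end basic

end Groth.Agent.An.H869.StdAlg
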